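import Cfsg.Agent.Lib.PStability.Core
import Cfsg.Agent.Lib.ConjFun.Quartic
import Cfsg.Agent.Lib.PRed.Basic
import Cfsg.Agent.Lib.LocalStructure.PClosed

/-!
`kInf_normal`: in a constrained group which is `p`-stable in the normalizer form (`p` odd) the
K-infinity subgroups of a Sylow `p`-subgroup are normal.
-/

set_option autoImplicit false

namespace Cfsg.Agent.PStability

open Subgroup
open scoped commutatorElement

universe u

variable {p : ℕ} [Fact p.Prime] {G : Type u} [Group G] [Finite G]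

/-- If `p'`-elements are trivial in the image, the image is a `p`-group. -/
theorem isPGroup_of_forall_coprime {H : Subgroup G}
    (h : ∀ x ∈ H, (orderOf x).Coprime p → x = 1) : IsPGroup p H := by
  intro x
  obtain ⟨x₁, x₂, hx, hx₁, hx₂, -⟩ := ConjFun.exists_decomp (p := p) x
  obtain ⟨k, hk⟩ := hx₁ ⟨x₁, mem_zpowers x₁⟩
  refine ⟨k, ?_⟩
  have h2 : x₂ = 1 := Subtype.ext (h x₂ x₂.2 (by rwa [orderOf_coe]))
  rw [hx, h2, mul_one]
  exact congrArg Subtype.val hk

set_option maxHeartbeats 2000000 in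
theorem kInf_normal (h2 : p ≠ 2) (hst : Cfsg.IsNormalizerPStable p G)
    (hC : centralizer ((Cfsg.pCore p G : Subgroup G) : Set G) ≤ Cfsg.pCore p G) (S : Sylow p G) :
    (Cfsg.inducedFunctor (G := G) Cfsg.kInfLower (S : Subgroup G)).Normal ∧
      (Cfsg.inducedFunctor (G := G) Cfsg.kInfUpper (S : Subgroup G)).Normal := by
  rw [← not_not (a := _ ∧ _), not_and_or]
  intro hK
  obtain ⟨A, hA⟩ := ConjFun.exists_isCritIn G p
  haveI := hA.normal
  obtain ⟨g, -, hgT, -, hZq, ⟨U₀, hU₀A, hU₀n, hAU, hUq⟩, -⟩ := ConjFun.exists_witness hA S hK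
  set Z := A ⊓ centralizer (A : Set G) with hZ
  haveI : Z.Normal := inferInstance
  set CZ := centralizer (Z : Set G) with hCZ
  have hAp : IsPGroup p A := PCore.isPGroup_pCore.to_le hA.le
  have hnA : ∀ x : G, x ∈ normalizer (A : Set G) := fun x => (normalizer_eq_top (H := A)).ge (mem_top x)
  have hnZ : ∀ x : G, x ∈ normalizer (Z : Set G) := fun x => (normalizer_eq_top (H := Z)).ge (mem_top x)
  -- elements quadratic on the centre
  set AZ := Cfsg.autInducedBy (⊤ : Subgroup G) Z with hAZ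
  let fZ : G →* MulAut Z := Z.normalizerMonoidHom.comp
    ((MonoidHom.id G).codRestrict (normalizer (Z : Set G)) hnZ)
  set L := ((Cfsg.pCore p AZ).map AZ.subtype).comap fZ with hL
  haveI hLn : L.Normal := ⟨fun x hx y => by
    obtain ⟨k, hk, hkx⟩ := hx
    have hy : fZ y ∈ AZ := Fusion.conjAut_mem_autInducedBy (mem_top y) (hnZ y)
    refine ⟨⟨fZ y, hy⟩ * k * ⟨fZ y, hy⟩⁻¹,
      (inferInstance : (Cfsg.pCore p AZ).Normal).conj_mem k hk _, ?_⟩
    rw [map_mul, map_mul, map_inv, hkx]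
    simp⟩
  have hCZL : CZ ≤ L := fun x hx => by
    refine mem_comap.2 ?_
    rw [show fZ x = 1 from MulEquiv.ext fun z => Subtype.ext (by
      show x * (z : G) * x⁻¹ = z
      rw [← hx z z.2, mul_inv_cancel_right])]
    exact one_mem _
  have hdev : ∀ (B : Subgroup G) (x : G) (hx : x ∈ normalizer (B : Set G)) (v : B),
      ((dev (B.normalizerMonoidHom ⟨x, hx⟩) v : B) : G) = ⁅(v : G)⁻¹, x⁆ := fun B x hx v => by
    show (v : G)⁻¹ * (x * v * x⁻¹) = _
    rw [commutatorElement_def]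
    group
  have hfix : ∀ (B : Subgroup G) (x : G) (hx : x ∈ normalizer (B : Set G)),
      ⁅⁅B, zpowers x⁆, zpowers x⁆ = ⊥ → ∀ v : B, B.normalizerMonoidHom ⟨x, hx⟩
        (dev (B.normalizerMonoidHom ⟨x, hx⟩) v) = dev (B.normalizerMonoidHom ⟨x, hx⟩) v :=
    fun B x hx hq v => (dev_fixed_iff _ v).1
      ((Fusion.commutator_commutator_eq_bot_iff B hx).1 hq v)
  have hgL : g ∈ L := mem_pCore_of_quad hst (hAp.to_le inf_le_left)
    (Fusion.conjAut_mem_autInducedBy (mem_top g) (hnZ g)) (hfix Z g (hnZ g) hZq)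
  set Γ₀ := CZ ⊔ zpowers g with hΓ₀
  have hΓL : Γ₀ ≤ L := sup_le hCZL (zpowers_le.2 hgL)
  -- `Γ₀` is subnormal
  have hsub : Γ₀.IsSubnormal := by
    have hLp : IsPGroup p (L.map fZ) :=
      (isPGroup_map_pCore (p := p) AZ).to_le (map_comap_le _ _)
    set R := fZ.ker.subgroupOf L
    have hR : IsPGroup p (↥L ⧸ R) := by
      have h1 : R = (fZ.comp L.subtype).ker := rfl
      have h2 : IsPGroup p (fZ.comp L.subtype).range := by
        rwa [MonoidHom.range_comp, range_subtype]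
      exact h2.of_equiv (QuotientGroup.quotientKerEquivRange (fZ.comp L.subtype)).symm
    refine IsSubnormal.trans hΓL (PRed.isSubnormal_of_quotient R hR hΓL ?_) hLn.isSubnormal
    rintro _ ⟨x, hx, rfl⟩
    refine mem_sup_left ?_
    intro z hz
    have h1 : (x : G) * z * (x : G)⁻¹ = z :=
      congrArg Subtype.val (DFunLike.congr_fun (hx : fZ (x : G) = 1) (⟨z, hz⟩ : Z) :)
    exact (mul_inv_eq_iff_eq_mul.1 h1).symm
  -- the action of `Γ₀` on `A`
  let fA : G →* MulAut A := A.normalizerMonoidHom.comp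
    ((MonoidHom.id G).codRestrict (normalizer (A : Set G)) hnA)
  set Γ := Γ₀.map fA with hΓ
  have hΓU : Γ₀ ≤ normalizer (U₀ : Set G) :=
    sup_le (fun x hx => hU₀n x (Or.inr hx)) (fun x hx => hU₀n x (Or.inl hx))
  have hquad : ∀ v : A, dev (fA g) (dev (fA g) v) ∈ U₀.subgroupOf A := fun v => by
    refine mem_subgroupOf.2 (hAU ?_)
    show ((dev (A.normalizerMonoidHom ⟨g, hnA g⟩) (dev (A.normalizerMonoidHom ⟨g, hnA g⟩) v) : A) : G) ∈ _
    rw [hdev, hdev]
    exact commutator_mem_commutator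
      (inv_mem (commutator_mem_commutator (inv_mem v.2) (mem_zpowers g))) (mem_zpowers g)
  have hgA := mem_pCore_of_quadMod h2 hst hAp Γ
    (by
      rintro _ ⟨x, -, rfl⟩
      exact Fusion.conjAut_mem_autInducedBy (mem_top x) (hnA x))
    (U₀.subgroupOf A) (by
      rintro _ ⟨x, hx, rfl⟩ v hv
      exact mem_subgroupOf.2 ((mem_normalizer_iff.1 (hΓU hx) (v : G)).1 (mem_subgroupOf.1 hv)))
    ⟨g, mem_sup_right (mem_zpowers g), rfl⟩ hquad
    (Or.inl fun v hv => by
      have hgU : g ∈ normalizer (U₀ : Set G) := hΓU (mem_sup_right (mem_zpowers g))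
      refine Subtype.ext ?_
      have h := congrArg Subtype.val (hfix U₀ g hgU hUq ⟨(v : G), mem_subgroupOf.1 hv⟩)
      exact h)
  set K := ((Cfsg.pCore p Γ).map Γ.subtype).comap fA ⊓ Γ₀ with hK'
  have hKp : IsPGroup p K := by
    refine isPGroup_of_forall_coprime fun x hx hxc => ?_
    obtain ⟨k, hk⟩ := isPGroup_map_pCore (p := p) Γ ⟨fA x, hx.1⟩
    have h1 : fA x ^ p ^ k = 1 := congrArg Subtype.val hk
    have h3 : fA x ^ Nat.gcd (p ^ k) (orderOf x) = 1 :=
      pow_gcd_eq_one.2 ⟨h1, by rw [← map_pow, pow_orderOf_eq_one, map_one]⟩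
    rw [(hxc.symm.pow_left k).gcd_eq_one, pow_one] at h3
    have hφ : (MulAut.conjNormal x : MulAut (Cfsg.pCore p G)) = 1 := by
      refine hA.aut _ (hxc.coprime_dvd_left (orderOf_map_dvd _ x)) fun a ha => Subtype.ext ?_
      show x * (a : G) * x⁻¹ = a
      exact congrArg Subtype.val (DFunLike.congr_fun h3 ⟨(a : G), ha⟩)
    have hxT : x ∈ Cfsg.pCore p G := hC fun t ht => (mul_inv_eq_iff_eq_mul.mp
      (congrArg Subtype.val (DFunLike.congr_fun hφ (⟨t, ht⟩ : Cfsg.pCore p G)) :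
        x * t * x⁻¹ = t)).symm
    obtain ⟨i, hi⟩ := PCore.isPGroup_pCore (p := p) (G := G) ⟨x, hxT⟩
    have h4 : x ^ Nat.gcd (p ^ i) (orderOf x) = 1 :=
      pow_gcd_eq_one.2 ⟨congrArg Subtype.val hi, pow_orderOf_eq_one x⟩
    rwa [(hxc.symm.pow_left i).gcd_eq_one, pow_one] at h4
  have hKn : Γ₀ ≤ normalizer (K : Set G) := fun y hy => by
    refine Transfer.mem_normalizer_of_conj_mem fun x hx => ⟨?_, Γ₀.mul_mem (Γ₀.mul_mem hy hx.2) (Γ₀.inv_mem hy)⟩
    obtain ⟨k, hk, hkx⟩ := hx.1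
    refine ⟨⟨fA y, ⟨y, hy, rfl⟩⟩ * k * ⟨fA y, ⟨y, hy, rfl⟩⟩⁻¹,
      (inferInstance : (Cfsg.pCore p Γ).Normal).conj_mem k hk _, ?_⟩
    rw [map_mul, map_mul, map_inv, hkx]
    simp
  have hKs : K.IsSubnormal :=
    IsSubnormal.step K Γ₀ inf_le_right hsub (normal_subgroupOf_of_le_normalizer hKn)
  exact hgT (LocalStructure.le_pCore_of_isSubnormal hKs hKp
    ⟨hgA, mem_sup_right (mem_zpowers g)⟩)

end Cfsg.Agent.PStability
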