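import Cfsg.Agent.Lib.PStability.Control
import Cfsg.Agent.Lib.PStability.KInfNormal
import Cfsg.Agent.Lib.Replacement.ZJ
import Cfsg.Agent.Lib.PComplement.GlaubermanThompson
import Cfsg.Agent.Lib.KInf.Basic
import Cfsg.Agent.Lib.Fusion.Group
import Cfsg.Agent.Lib.Fusion.ConstrainedGroup

/-!
For `p` odd and a `p`-stable finite group: `ZJ(S)` and the K-infinity subgroup of a Sylow
`p`-subgroup `S` are normal in the fusion system on `S`, which therefore is constrained.
-/

set_option autoImplicit false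

namespace Cfsg.Agent.PStability

open Subgroup

universe u

variable {p : ℕ} [Fact p.Prime] {G : Type u} [Group G] [Finite G]

/-- `ZJ(S)` is normal in a stable constrained group, in the functor form. -/
theorem zjA_normal (h2 : p ≠ 2) (hst : Cfsg.IsNormalizerPStable p G)
    (hc : centralizer ((Cfsg.pCore p G : Subgroup G) : Set G) ≤ Cfsg.pCore p G) (S : Sylow p G) :
    (Cfsg.inducedFunctor (G := G) PComplement.zjAFunctor (S : Subgroup G)).Normal := by
  rw [show Cfsg.inducedFunctor (G := G) PComplement.zjAFunctor (S : Subgroup G) =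
    Cfsg.centerThompsonAOf (S : Subgroup G) from PComplement.wOf_zjA _]
  exact Replacement.centerThompsonAOf_normal h2 S (Replacement.isStronglyClosed_self _)
    (Replacement.stableOn_of_isNormalizerPStable _ hst) hc

/-- `ZJ(S)` is normal in the fusion system of a stable group. -/
theorem isNormal_zjA (h2 : p ≠ 2) (hst : Cfsg.IsNormalizerPStable p G) (S : Sylow p G) :
    (Cfsg.groupFusionSystem (S : Subgroup G)).IsNormal
      (Cfsg.inducedFunctor (G := G) PComplement.zjAFunctor (S : Subgroup G)) :=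
  isNormal_inducedFunctor h2 PComplement.isCharPFunctor_zjA
    (fun _ _ _ hX hc T => zjA_normal h2 hX hc T) hst S

/-- The K-infinity subgroup is normal in the fusion system of a stable group. -/
theorem isNormal_kInfLower (h2 : p ≠ 2) (hst : Cfsg.IsNormalizerPStable p G) (S : Sylow p G) :
    (Cfsg.groupFusionSystem (S : Subgroup G)).IsNormal
      (Cfsg.inducedFunctor (G := G) Cfsg.kInfLower (S : Subgroup G)) :=
  isNormal_inducedFunctor h2 KInf.isCharPFunctor_kInfLower
    (fun _ _ _ hX hc T => (kInf_normal h2 hX hc T).1) hst S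

/-- `ZJ(S)` is not trivial when `S` is not trivial. -/
theorem core_ne_bot (h2 : p ≠ 2) (hst : Cfsg.IsNormalizerPStable p G) (S : Sylow p G)
    (hS : (S : Subgroup G) ≠ ⊥) :
    (Cfsg.groupFusionSystem (S : Subgroup G)).core ≠ ⊥ := fun h =>
  PComplement.wOf_ne_bot PComplement.isCharPFunctor_zjA S.2 hS
    (le_bot_iff.1 (h ▸ le_sSup (isNormal_zjA h2 hst S)))

/-- The fusion system of a stable group is constrained. -/
theorem isConstrained (h2 : p ≠ 2) (hst : Cfsg.IsNormalizerPStable p G) (S : Sylow p G) :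
    (Cfsg.groupFusionSystem (S : Subgroup G)).IsConstrained p := by
  set U := Cfsg.inducedFunctor (G := G) Cfsg.kInfLower (S : Subgroup G) with hU
  have hN := isNormal_kInfLower h2 hst S
  rw [← hU] at hN
  refine ⟨Fusion.groupFusionSystem_saturated S, U, hN, hN.1, ?_⟩
  rintro Q ⟨φ, hφ, rfl⟩
  obtain ⟨ψ, -, hψφ, hψU⟩ := hN.2 U φ hφ
  have hr : φ.range = U := by
    ext x
    constructor
    · rintro ⟨a, rfl⟩
      exact hψU.le ⟨Subgroup.inclusion le_sup_left a, mem_subgroupOf.2 a.2, hψφ a⟩
    · intro hx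
      obtain ⟨⟨a, ha'⟩, ha, rfl⟩ := hψU.ge hx
      exact ⟨⟨a, mem_subgroupOf.1 ha⟩, (hψφ _).symm⟩
  rw [hr]
  rintro x ⟨hxS, hxU⟩
  exact ⟨⟨x, hxS⟩, KInf.centralizer_kInfLower_le S.2 (mem_centralizer_iff.2 fun t ht =>
    Subtype.ext (mem_centralizer_iff.1 hxU _ ⟨t, ht, rfl⟩)), rfl⟩

end Cfsg.Agent.PStability
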