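import Cfsg.Agent.Lib.PStability.Core
import Cfsg.Agent.Lib.Transfer.SectionFusion
import Cfsg.Agent.Lib.ZJControl.Fusion
import Cfsg.Agent.Lib.ConjFun.KInfControl

/-!
Control of strong fusion in `p`-stable groups (normalizer form, `p` odd).

* `fus_of_stable`: a characteristic `p`-functor which is normal in every stable constrained group
  controls strong fusion in every stable group;
* `exists_normalizer_conj`, `isNormal_inducedFunctor`: consequences.
-/

set_option autoImplicit false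
set_option linter.style.haveILetI false

namespace Cfsg.Agent.PStability

open Subgroup Cfsg.Agent.Transfer
open scoped Pointwise

universe u

variable {p : ℕ} [Fact p.Prime] {W : ∀ (Q : Type u) [Group Q], Subgroup Q}

private theorem hfam (hW : Cfsg.IsCharPFunctor.{u} p W) :
    ∀ V ∈ ({W} : Set (∀ (Q : Type u) [Group Q], Subgroup Q)), Cfsg.IsCharPFunctor.{u} p V := by
  rintro V rfl
  exact hW

/-- The reduction to the case where the Sylow subgroup and `C(O_p(G))` generate. -/
theorem fus_of_sylow_sup_ne_top (hW : Cfsg.IsCharPFunctor.{u} p W) {G : Type u} [Group G] [Finite G]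
    (hsub : ∀ M : Subgroup G, M ≠ ⊤ → Fus p ({W} : Set (∀ (Q : Type u) [Group Q], Subgroup Q)) M)
    (hO : Cfsg.pPrimeCore p G = ⊥)
    (hCQ : ¬ centralizer ((Cfsg.pCore p G : Subgroup G) : Set G) ≤ Cfsg.pCore p G)
    (S : Sylow p G)
    (hne : (S : Subgroup G) ⊔ centralizer ((Cfsg.pCore p G : Subgroup G) : Set G) ≠ ⊤) :
    Fus p ({W} : Set (∀ (Q : Type u) [Group Q], Subgroup Q)) G := by
  set Q := Cfsg.pCore p G with hQdef
  have hQS : Q ≤ (S : Subgroup G) := PCore.pCore_le_sylow S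
  set C := centralizer (Q : Set G) with hCdef
  set C' := Q ⊔ C with hC'
  haveI : C'.Normal := inferInstance
  set X := (S : Subgroup G) ⊓ C' with hX
  have hXS : X ≤ (S : Subgroup G) := inf_le_left
  have hXQ : ¬ X ≤ Q := by
    intro h
    refine hCQ ?_
    have h1 := le_pPrimeCore_sup_of_inf_le S C Q
      (fun c hc d hd => (mem_centralizer_iff.mp hc d hd).symm)
      ((inf_le_inf_left _ le_sup_right).trans h)
    rwa [hO, bot_sup_eq] at h1
  have hSX : (S : Subgroup G) ≤ normalizer (X : Set G) := fun s hs =>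
    mem_normalizer_of_conj_mem fun z hz =>
      ⟨(S : Subgroup G).mul_mem ((S : Subgroup G).mul_mem hs hz.1) ((S : Subgroup G).inv_mem hs),
        (inferInstance : C'.Normal).conj_mem z hz.2 s⟩
  have hXne : normalizer (X : Set G) ≠ ⊤ := fun h => by
    haveI := normalizer_eq_top_iff.mp h
    exact hXQ (PCore.le_pCore (S.2.to_le hXS))
  have hfamily := hfam hW
  set 𝓛 := functorNormalizers
    (sectionFamily ({W} : Set (∀ (Q : Type u) [Group Q], Subgroup Q)) G) ⊤ (S : Subgroup G)
  suffices main : ∀ k, ∀ D : Subgroup G, IsTame S D → Nat.card (S : Subgroup G) - Nat.card D = k →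
      ∀ x ∈ normalizer (D : Set G), LChain 𝓛 (S : Subgroup G) (D : Set G) x by
    refine familyControlsStrongFusionIn_of_lchain le_top S.2
      (by rw [relIndex_top_right]; exact S.not_dvd_index) fun A g _ hA hAg => ?_
    have := lchain_of_fusionChain (fun D hD => main _ D hD rfl)
      (alperin S A g⁻¹ hA fun a ha => by rw [inv_inv]; exact hAg a ha)
    rwa [inv_inv] at this
  intro k
  induction k using Nat.strong_induction_on with
  | _ k IH =>
  intro D hD hk x hx
  have hDS := hD.le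
  have hxD : ∀ y ∈ normalizer (D : Set G), ∀ d ∈ D, y * d * y⁻¹ ∈ D :=
    fun y hy d hd => (mem_normalizer_iff.mp hy d).mp hd
  by_cases hXD : X ≤ D
  · have hXeq : X = D ⊓ C' := le_antisymm (le_inf hXD inf_le_right) (inf_le_inf_right _ hDS)
    have hxX : x ∈ normalizer (X : Set G) := mem_normalizer_of_conj_mem fun z hz => by
      rw [hXeq] at hz ⊢
      exact ⟨hxD x hx z hz.1, (inferInstance : C'.Normal).conj_mem z hz.2 x⟩
    exact lchain_of_overgroup hfamily S hSX (hsub _ hXne) hxX hDS fun d hd => hDS (hxD x hx d hd)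
  set ND := normalizer (D : Set G) with hND
  set Y := (S : Subgroup G) ⊓ ND ⊓ C' with hY
  have hYD : ¬ Y ≤ D := fun h => hXD
    (ZJControl.le_of_inf_normalizer_le S.2 hXS hDS hSX fun z hz => h ⟨⟨hz.1.1, hz.2⟩, hz.1.2⟩)
  -- Frattini in `N(D)`
  obtain ⟨T', -, hTidx, -⟩ := id hD
  obtain ⟨T, hT⟩ := ConjFun.exists_sylow_eq (p := p) (H := ND)
    (S.2.to_le (inf_le_left : (S : Subgroup G) ⊓ ND ≤ _)) hTidx
  obtain ⟨R, hR⟩ := SylowCount.exists_sylow_inf T (C'.subgroupOf ND)
  have hfrat := Sylow.normalizer_sup_eq_top R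
  rw [hR, subgroupOf_map_subtype, sup_comm] at hfrat
  have hxm : (⟨x, hx⟩ : ND) ∈ ((C'.subgroupOf ND : Subgroup ND) : Set ND) *
      (normalizer (((T : Subgroup ND) ⊓ C'.subgroupOf ND : Subgroup ND) : Set ND) : Set ND) := by
    rw [← normal_mul, hfrat]
    trivial
  obtain ⟨⟨c, hcN⟩, hc, ⟨n, hnN⟩, hn, hcn⟩ := hxm
  have hcn' : c * n = x := congrArg Subtype.val hcn
  have hnY : ∀ z ∈ Y, n * z * n⁻¹ ∈ Y := by
    intro z hz
    have h1 := (mem_normalizer_iff.mp hn (⟨z, hz.1.2⟩ : ND)).mp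
      ⟨by rw [hT]; exact mem_subgroupOf.2 hz.1, mem_subgroupOf.2 hz.2⟩
    have h2 : n * z * n⁻¹ ∈ (S : Subgroup G) ⊓ ND := by
      have h := h1.1
      rw [hT] at h
      exact mem_subgroupOf.1 h
    exact ⟨h2, mem_subgroupOf.1 h1.2⟩
  set E := D ⊔ Y with hE
  have hES : E ≤ (S : Subgroup G) := sup_le hDS (inf_le_left.trans inf_le_left)
  have hDE : D < E := lt_of_le_of_ne le_sup_left fun h => hYD (le_sup_right.trans h.ge)
  have hnE : ∀ z ∈ E, n * z * n⁻¹ ∈ E := by
    intro z hz
    have hle : E ≤ E.comap (MulAut.conj n).toMonoidHom :=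
      sup_le (fun d hd => mem_sup_left (hxD n hnN d hd)) fun d hd => mem_sup_right (hnY d hd)
    exact hle hz
  have hnch : LChain 𝓛 (S : Subgroup G) (D : Set G) n := by
    have hch := (alperin S (E : Set G) n⁻¹ hES (fun z hz => by
      rw [inv_inv]; exact hES (hnE z hz))).strengthen (Nat.card E)
      (Nat.card_coe_set_eq (E : Set G)).le
    have hlt : Nat.card D < Nat.card E := by
      by_contra hle
      exact hDE.ne (eq_of_le_of_card_ge hDE.le (not_lt.mp hle))
    have h1 := lchain_of_fusionChain (fun E' hE' => IH _ (by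
      have h2 := card_le_of_le hE'.1.le
      have h3 := hE'.2
      omega) E' hE'.1 rfl) hch
    rw [inv_inv] at h1
    exact h1.mono_set _ hDE.le
  have hcM : c ∈ (S : Subgroup G) ⊔ C :=
    (sup_le (hQS.trans le_sup_left) le_sup_right : C' ≤ _) (mem_subgroupOf.1 hc)
  have hcch : LChain 𝓛 (S : Subgroup G) (D : Set G) c :=
    lchain_of_overgroup hfamily S le_sup_left (hsub _ hne) hcM hDS fun d hd => hDS (hxD c hcN d hd)
  have e : (fun d => n * d * n⁻¹) '' (D : Set G) = (D : Set G) := by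
    ext d
    constructor
    · rintro ⟨a, ha, rfl⟩
      exact hxD n hnN a ha
    · intro hd
      exact ⟨n⁻¹ * d * n, (mem_normalizer_iff''.mp hnN d).mp hd, by group⟩
  exact hcn' ▸ hnch.trans c (e.symm ▸ hcch)

/-- **Control of strong fusion in stable groups.** -/
theorem fus_of_stable (h2 : p ≠ 2) (hW : Cfsg.IsCharPFunctor.{u} p W)
    (hnorm : ∀ (X : Type u) [Group X] [Finite X], Cfsg.IsNormalizerPStable p X →
      centralizer ((Cfsg.pCore p X : Subgroup X) : Set X) ≤ Cfsg.pCore p X →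
      ∀ S : Sylow p X, (Cfsg.inducedFunctor (G := X) W (S : Subgroup X)).Normal)
    {G : Type u} [Group G] [Finite G] (hst : Cfsg.IsNormalizerPStable p G) :
    Fus p ({W} : Set (∀ (Q : Type u) [Group Q], Subgroup Q)) G := by
  suffices H : ∀ (n : ℕ) (G : Type u) [Group G] [Finite G], Nat.card G = n →
      Cfsg.IsNormalizerPStable p G → Fus p ({W} : Set (∀ (Q : Type u) [Group Q], Subgroup Q)) G from
    H _ G rfl hst
  intro n
  induction n using Nat.strong_induction_on with
  | _ n IH =>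
  intro G _ _ hn hst
  have hfamily := hfam hW
  have hsub : ∀ M : Subgroup G, M ≠ ⊤ →
      Fus p ({W} : Set (∀ (Q : Type u) [Group Q], Subgroup Q)) M := fun M hM =>
    IH _ (hn ▸ ConjFun.card_lt_of_ne_top hM) M rfl
      (ConjFun.isNormalizerPStable_of_injective hst M.subtype M.subtype_injective)
  obtain ⟨S⟩ : Nonempty (Sylow p G) := inferInstance
  set Q := Cfsg.pCore p G with hQ
  by_cases h5 : Cfsg.pPrimeCore p G = ⊥ ∧ ¬ centralizer (Q : Set G) ≤ Q ∧
      (S : Subgroup G) ⊔ centralizer (Q : Set G) ≠ ⊤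
  · exact fus_of_sylow_sup_ne_top hW hsub h5.1 h5.2.1 S h5.2.2
  refine fus_step' hfamily hsub (fun hO => ?_) (fun hQ1 hO hCQ => ?_) fun hC => ?_
  · exact IH _ (hn ▸ ConjFun.card_quotient_lt hO) _ rfl
      (isNormalizerPStable_quotient_coprime hst _ PCore.coprime_card_pPrimeCore)
  · have htop : (S : Subgroup G) ⊔ centralizer (Q : Set G) = ⊤ := by
      by_contra h
      exact h5 ⟨hO, hCQ, h⟩
    refine IH _ (hn ▸ ConjFun.card_quotient_lt hQ1) _ rfl
      (isNormalizerPStable_quotient_pCore h2 hst Q PCore.isPGroup_pCore fun m hm => ?_)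
    set C := centralizer (Q : Set G)
    obtain ⟨s, hs, c, hc, rfl⟩ : m ∈ ((S : Subgroup G) : Set G) * (C : Set G) := by
      rw [← mul_normal, htop]
      trivial
    obtain ⟨j, hj⟩ := S.2 ⟨s, hs⟩
    have hmC : ((s * c : G) : G ⧸ C) ^ p ^ j = 1 := by
      rw [QuotientGroup.mk_mul, (QuotientGroup.eq_one_iff c).2 hc, mul_one, ← QuotientGroup.mk_pow,
        show s ^ p ^ j = 1 from congrArg Subtype.val hj, QuotientGroup.mk_one]
    have hmo : ((s * c : G) : G ⧸ C) ^ orderOf (s * c) = 1 := by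
      rw [← QuotientGroup.mk_pow, pow_orderOf_eq_one, QuotientGroup.mk_one]
    have h3 : ((s * c : G) : G ⧸ C) ^ Nat.gcd (p ^ j) (orderOf (s * c)) = 1 :=
      pow_gcd_eq_one.2 ⟨hmC, hmo⟩
    rw [(hm.symm.pow_left j).gcd_eq_one, pow_one] at h3
    exact (QuotientGroup.eq_one_iff _).1 h3
  · refine familyControlsStrongFusionIn_of_lchain le_top S.2
      (by rw [relIndex_top_right]; exact S.not_dvd_index) fun A g _ hA hAg => ?_
    refine LChain.single ⟨_, ⟨W, rfl, rfl⟩, rfl⟩ (mem_inf.mpr ⟨mem_top g, ?_⟩) hAg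
    rw [normalizer_eq_top_iff.mpr (hnorm G hst hC S)]
    exact mem_top g

/-- The functor controls strong fusion in `S`. -/
theorem exists_normalizer_conj (h2 : p ≠ 2) (hW : Cfsg.IsCharPFunctor.{u} p W)
    (hnorm : ∀ (X : Type u) [Group X] [Finite X], Cfsg.IsNormalizerPStable p X →
      centralizer ((Cfsg.pCore p X : Subgroup X) : Set X) ≤ Cfsg.pCore p X →
      ∀ S : Sylow p X, (Cfsg.inducedFunctor (G := X) W (S : Subgroup X)).Normal)
    {G : Type u} [Group G] [Finite G] (hst : Cfsg.IsNormalizerPStable p G) (S : Sylow p G)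
    {A : Set G} {g : G} (hA : A ⊆ (S : Subgroup G)) (hg : ∀ a ∈ A, g * a * g⁻¹ ∈ (S : Subgroup G)) :
    ∃ x ∈ normalizer ((Cfsg.inducedFunctor (G := G) W (S : Subgroup G) : Subgroup G) : Set G),
      ∀ a ∈ A, g * a * g⁻¹ = x * a * x⁻¹ := by
  have hch := lchain_of_familyControlsStrongFusionIn
    (isConjugacyFunctor_sectionFamily (hfam hW)) le_top S.2
    (by rw [relIndex_top_right]; exact S.not_dvd_index) (fus_of_stable h2 hW hnorm hst)
    (A := A) (g := g) (mem_top g) hA hg
  rw [sectionFamily, Set.image_singleton] at hch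
  obtain ⟨x, hx, he⟩ := lchain_singleton_exists hch
  exact ⟨x, hx.2, fun a ha => (he a ha).symm⟩

/-- The functor is normal in the fusion system. -/
theorem isNormal_inducedFunctor (h2 : p ≠ 2) (hW : Cfsg.IsCharPFunctor.{u} p W)
    (hnorm : ∀ (X : Type u) [Group X] [Finite X], Cfsg.IsNormalizerPStable p X →
      centralizer ((Cfsg.pCore p X : Subgroup X) : Set X) ≤ Cfsg.pCore p X →
      ∀ S : Sylow p X, (Cfsg.inducedFunctor (G := X) W (S : Subgroup X)).Normal)
    {G : Type u} [Group G] [Finite G] (hst : Cfsg.IsNormalizerPStable p G) (S : Sylow p G) :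
    (Cfsg.groupFusionSystem (S : Subgroup G)).IsNormal
      (Cfsg.inducedFunctor (G := G) W (S : Subgroup G)) := by
  set U := Cfsg.inducedFunctor (G := G) W (S : Subgroup G) with hU
  have hUS : U ≤ (S : Subgroup G) := ConjFun.inducedFunctor_le W _
  refine ⟨hUS, fun P φ hφ => ?_⟩
  obtain ⟨hPS, hφS, g, hg⟩ := Fusion.mem_groupHom.1 hφ
  obtain ⟨x, hx, hxe⟩ := exists_normalizer_conj h2 hW hnorm hst S (A := (P : Set G)) (g := g)
    (fun a ha => hPS ha) (fun a ha => hg ⟨a, ha⟩ ▸ hφS ⟨a, ha⟩)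
  have hmap : (P ⊔ U).map (MulAut.conj x).toMonoidHom ≤ (S : Subgroup G) := by
    rw [Subgroup.map_sup]
    refine sup_le ?_ ?_
    · rintro _ ⟨a, ha, rfl⟩
      show x * a * x⁻¹ ∈ (S : Subgroup G)
      rw [← hxe a ha, ← hg ⟨a, ha⟩]
      exact hφS _
    · rintro _ ⟨a, ha, rfl⟩
      exact hUS ((mem_normalizer_iff.mp hx a).mp ha)
  have hψ := Fusion.conjHom_mem_groupHom (sup_le hPS hUS) hmap
  refine ⟨_, hψ, fun a => (hxe (a : G) a.2).symm.trans (hg a).symm, ?_⟩
  exact (Fusion.map_subgroupOf_eq_iff hψ le_sup_right).2 fun a ha =>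
    (mem_normalizer_iff.mp hx a).mp ha

end Cfsg.Agent.PStability
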