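import Cfsg.Agent.Lib.PStability.QuadPair
import Cfsg.Agent.Lib.Fusion.PStable
import Cfsg.Agent.Lib.Quadratic.Stability
import Cfsg.Agent.Lib.PComplement.Reduction

/-!
Consequences of `p`-stability in the normalizer form, `p` odd.

* `mem_pCore_of_quadMod`: automorphisms quadratic modulo `N` lie in `O_p`, when they are quadratic
  on `N` or the `p'`-automorphisms fix `N`;
* `isNormalizerPStable_quotient_pCore`: `G/Q` is stable for a normal `p`-subgroup `Q` centralised
  by the `p'`-elements;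
* `isNormalizerPStable_quotient_coprime`: `G/M` is stable for a normal `p'`-subgroup `M`.
-/

set_option autoImplicit false

namespace Cfsg.Agent.PStability

open Cfsg.Agent.Fusion
open scoped commutatorElement

universe u

section Restrict

variable {V : Type*} [Group V]

/-- The stabiliser of a subgroup in `MulAut V`. -/
def stab (R : Subgroup V) : Subgroup (MulAut V) where
  carrier := {x | ∀ v, x v ∈ R ↔ v ∈ R}
  one_mem' _ := Iff.rfl
  mul_mem' hx hy v := (hx _).trans (hy v)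
  inv_mem' {x} hx v := by
    rw [← hx (x⁻¹ v), MulAut.inv_def, MulEquiv.apply_symm_apply]

theorem mem_stab_of_forall [Finite V] {R : Subgroup V} {x : MulAut V} (h : ∀ v ∈ R, x v ∈ R) :
    x ∈ stab R := by
  have he : R.map x.toMonoidHom = R := by
    refine Subgroup.eq_of_le_of_card_ge (by rintro _ ⟨v, hv, rfl⟩; exact h v hv) ?_
    rw [Subgroup.card_map_of_injective x.injective]
  refine fun v => ⟨fun hv => ?_, h v⟩
  obtain ⟨w, hw, hwv⟩ := he.ge hv
  rwa [← x.injective hwv]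

/-- Restriction to a stable subgroup. -/
def resHom (R : Subgroup V) : stab R →* MulAut R where
  toFun x :=
    { toFun := fun v => ⟨(x : MulAut V) v, (x.2 _).2 v.2⟩
      invFun := fun v => ⟨(x : MulAut V).symm v,
        (x.2 _).1 (by rw [MulEquiv.apply_symm_apply]; exact v.2)⟩
      left_inv := fun v => Subtype.ext ((x : MulAut V).symm_apply_apply v)
      right_inv := fun v => Subtype.ext ((x : MulAut V).apply_symm_apply v)
      map_mul' := fun v w => Subtype.ext (map_mul (x : MulAut V) _ _) }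
  map_one' := rfl
  map_mul' _ _ := rfl

theorem coe_resHom (R : Subgroup V) (x : stab R) (v : R) :
    ((resHom R x v : R) : V) = (x : MulAut V) v := rfl

theorem coe_dev_resHom (R : Subgroup V) (x : stab R) (v : R) :
    ((dev (resHom R x) v : R) : V) = dev (x : MulAut V) v := rfl

end Restrict

variable {p : ℕ} [hp : Fact p.Prime]

theorem exists_pPrime_ne_one {H : Type*} [Group H] [Finite H] (h : ¬ IsPGroup p H) :
    ∃ y : H, (orderOf y).Coprime p ∧ y ≠ 1 := by
  by_contra! hc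
  refine h fun x => ?_
  obtain ⟨x₁, x₂, hx, hx₁, hx₂, -⟩ := ConjFun.exists_decomp (p := p) x
  obtain ⟨k, hk⟩ := hx₁ ⟨x₁, Subgroup.mem_zpowers x₁⟩
  exact ⟨k, by rw [hx, hc x₂ hx₂, mul_one]; exact congrArg Subtype.val hk⟩

theorem apply_eq_self_of_isPGroup {V : Type*} [Group V] [Finite V] {K : Subgroup (MulAut V)}
    {H : Type*} [Group H] (f : K →* H) (hf : IsPGroup p f.range) {y : MulAut V} (hy : y ∈ K)
    (hc : (orderOf y).Coprime p) : f ⟨y, hy⟩ = 1 := by
  obtain ⟨k, hk⟩ := hf ⟨f ⟨y, hy⟩, _, rfl⟩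
  have h1 : f ⟨y, hy⟩ ^ p ^ k = 1 := congrArg Subtype.val hk
  have h2 : f ⟨y, hy⟩ ^ orderOf y = 1 := by
    rw [← map_pow, show (⟨y, hy⟩ : K) ^ orderOf y = 1 from Subtype.ext (pow_orderOf_eq_one y), map_one]
  have h3 : f ⟨y, hy⟩ ^ Nat.gcd (p ^ k) (orderOf y) = 1 := pow_gcd_eq_one.2 ⟨h1, h2⟩
  rwa [(hc.symm.pow_left k).gcd_eq_one, pow_one] at h3

variable {G : Type u} [Group G] [Finite G]

/-- The stability condition, for automorphisms induced by `G`. -/
theorem mem_pCore_of_quad (hst : Cfsg.IsNormalizerPStable p G) {Q : Subgroup G} (hQ : IsPGroup p Q)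
    {χ : MulAut Q} (hχ : χ ∈ Cfsg.autInducedBy ⊤ Q)
    (hq : ∀ a, χ (dev χ a) = dev χ a) :
    χ ∈ (Cfsg.pCore p (Cfsg.autInducedBy ⊤ Q)).map
      (Cfsg.autInducedBy ⊤ Q).subtype := by
  have h := (quadStable_top_iff (p := p) Q).2 (hst Q hQ)
  unfold QuadStable at h
  rw [group_autGroup (le_top : Q ≤ ⊤)] at h
  exact h χ hχ fun a => (dev_fixed_iff χ a).2 (hq a)

omit hp in
theorem isPGroup_map_pCore {H : Type*} [Group H] [Finite H] (A : Subgroup H) :
    IsPGroup p ((Cfsg.pCore p A).map A.subtype) :=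
  PCore.isPGroup_pCore.map _

/-- Automorphisms quadratic modulo `N` lie in `O_p`. -/
theorem mem_pCore_of_quadMod (h2 : p ≠ 2) (hst : Cfsg.IsNormalizerPStable p G) {U : Subgroup G}
    (hU : IsPGroup p U) (Γ : Subgroup (MulAut U))
    (hΓ : Γ ≤ Cfsg.autInducedBy ⊤ U) (N : Subgroup U)
    (hN : ∀ α ∈ Γ, ∀ v ∈ N, α v ∈ N) {g : MulAut U} (hg : g ∈ Γ)
    (hq : ∀ v, dev g (dev g v) ∈ N)
    (hor : (∀ v ∈ N, g (dev g v) = dev g v) ∨
      ∀ y ∈ Γ, (orderOf y).Coprime p → ∀ v ∈ N, y v = v) :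
    g ∈ (Cfsg.pCore p Γ).map Γ.subtype := by
  classical
  have : Finite (MulAut U) :=
    Finite.of_injective (fun α : MulAut U => (α : U → U)) DFunLike.coe_injective
  by_contra hgc
  obtain ⟨x, hx⟩ := Quadratic.exists_pair_of_not_mem (p := p) (a := (⟨g, hg⟩ : Γ))
    (fun hc => hgc ⟨_, hc, rfl⟩)
  set h : MulAut U := (x : MulAut U) * g * (x : MulAut U)⁻¹ with hh
  have hhΓ : h ∈ Γ := mul_mem (mul_mem x.2 hg) (inv_mem x.2)
  set J := Subgroup.closure ({g, h} : Set (MulAut U)) with hJ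
  have hJΓ : J ≤ Γ := by
    rw [hJ, Subgroup.closure_le]
    rintro y (rfl | rfl) <;> assumption
  have hnp : ∃ y ∈ J, (orderOf y).Coprime p ∧ y ≠ 1 := by
    have hJp : ¬ IsPGroup p J := fun hc => hx <| by
      refine (hc.comap_of_injective Γ.subtype Γ.subtype_injective).to_le ?_
      rw [Subgroup.closure_le]
      rintro z (rfl | rfl)
      · exact Subgroup.subset_closure (Or.inl rfl)
      · exact Subgroup.subset_closure (Or.inr rfl)
    obtain ⟨y, hy, hy1⟩ := exists_pPrime_ne_one hJp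
    exact ⟨y, y.2, by rwa [Subgroup.orderOf_coe], fun hc => hy1 (Subtype.ext hc)⟩
  have hmove : ∃ y ∈ J, (orderOf y).Coprime p ∧ ∃ v ∈ (⊤ : Subgroup U), y v ≠ v := by
    obtain ⟨y, hy, hyc, hy1⟩ := hnp
    refine ⟨y, hy, hyc, ?_⟩
    by_contra! hc
    exact hy1 (MulEquiv.ext fun v => hc v (Subgroup.mem_top v))
  obtain ⟨V, hV⟩ := Set.Finite.exists_minimal (Set.toFinite {R : Subgroup U |
      (∀ j ∈ J, ∀ v ∈ R, j v ∈ R) ∧ ∃ y ∈ J, (orderOf y).Coprime p ∧ ∃ v ∈ R, y v ≠ v})
    ⟨⊤, fun _ _ _ _ => trivial, hmove⟩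
  obtain ⟨hVinv, yV, hyV, hyVc, w, hw, hwne⟩ := hV.prop
  have hJV : J ≤ stab V := fun j hj => mem_stab_of_forall (hVinv j hj)
  set res : J →* MulAut V := (resHom V).comp (Subgroup.inclusion hJV) with hres
  set gV : MulAut V := res ⟨g, Subgroup.subset_closure (Or.inl rfl)⟩ with hgV
  set hV' : MulAut V := res ⟨h, Subgroup.subset_closure (Or.inr rfl)⟩ with hhV
  have hrange : res.range = Subgroup.closure {gV, hV'} := by
    rw [MonoidHom.range_eq_map, ← Subgroup.closure_closure_coe_preimage (k := ({g, h} : Set (MulAut U))),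
      MonoidHom.map_closure]
    congr 1
    ext z
    constructor
    · rintro ⟨⟨j, hj⟩, hjm, rfl⟩
      rcases (show j = g ∨ j = h from hjm) with rfl | rfl
      · exact Or.inl rfl
      · exact Or.inr rfl
    · rintro (rfl | rfl)
      · exact ⟨⟨g, Subgroup.subset_closure (Or.inl rfl)⟩, Or.inl rfl, rfl⟩
      · exact ⟨⟨h, Subgroup.subset_closure (Or.inr rfl)⟩, Or.inr rfl, rfl⟩
  have hlift : ∀ z ∈ res.range, (orderOf z).Coprime p → ∃ y : J, (orderOf y).Coprime p ∧ res y = z := by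
    rintro _ ⟨y, rfl⟩ hc
    obtain ⟨y₁, y₂, hy, hy₁, hy₂, m, hm⟩ := ConjFun.exists_decomp (p := p) y
    refine ⟨y₂, hy₂, ?_⟩
    obtain ⟨k, hk⟩ := hy₁ ⟨y₁, Subgroup.mem_zpowers y₁⟩
    have h1 : res y₁ ^ p ^ k = 1 := by
      rw [← map_pow, show y₁ ^ p ^ k = 1 from congrArg Subtype.val hk, map_one]
    have h2 : res y₁ ^ orderOf (res y) = 1 := by
      rw [hm, map_pow, ← pow_mul, mul_comm, pow_mul, pow_orderOf_eq_one, one_pow]
    have h3 : res y₁ ^ Nat.gcd (p ^ k) (orderOf (res y)) = 1 := pow_gcd_eq_one.2 ⟨h1, h2⟩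
    rw [(hc.symm.pow_left k).gcd_eq_one, pow_one] at h3
    rw [hy, map_mul, h3, one_mul]
  have hresc : ∀ (y : J), (orderOf y).Coprime p → (orderOf (res y)).Coprime p := fun y hy =>
    hy.coprime_dvd_left (orderOf_map_dvd res y)
  -- the hypotheses of the pair lemma
  have hfix : ∀ (R : Subgroup U), (∀ j ∈ J, ∀ v ∈ R, j v ∈ R) → R < V → ∀ v : V, (v : U) ∈ R →
      v ∈ pPrimeFix p res.range := by
    intro R hR hlt v hv z hz hc
    obtain ⟨y, hy, rfl⟩ := hlift z hz hc
    refine Subtype.ext ?_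
    show (y : MulAut U) v = v
    by_contra hne
    exact hlt.not_ge (hV.le_of_le
      ⟨hR, y, y.2, by rwa [Subgroup.orderOf_coe], v, hv, hne⟩ hlt.le)
  have hmin : ∀ R : Subgroup V, (∀ j ∈ res.range, ∀ v ∈ R, j v ∈ R) → R ≠ ⊤ →
      R ≤ pPrimeFix p res.range := by
    intro R hR hne v hv
    refine hfix (R.map V.subtype) ?_ ?_ v ⟨v, hv, rfl⟩
    · rintro j hj _ ⟨r, hr, rfl⟩
      exact ⟨res ⟨j, hj⟩ r, hR _ ⟨_, rfl⟩ r hr, rfl⟩
    · refine lt_of_le_of_ne (Subgroup.map_subtype_le R) fun hc => hne ?_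
      refine eq_top_iff.2 fun r _ => ?_
      obtain ⟨r', hr', he⟩ := hc.ge r.2
      rwa [← Subtype.ext he]
  have hNh : ∀ v, dev h (dev h v) ∈ N := fun v => by
    obtain ⟨v, rfl⟩ := (x : MulAut U).surjective v
    rw [hh, ← apply_dev, ← apply_dev]
    exact hN _ x.2 _ (hq v)
  have hqh : (∀ v ∈ N, g (dev g v) = dev g v) → ∀ v ∈ N, h (dev h v) = dev h v := by
    intro hc v hv
    have hv' : (x : MulAut U)⁻¹ v ∈ N := hN _ (inv_mem x.2) v hv
    obtain ⟨v, rfl⟩ := (x : MulAut U).surjective v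
    rw [hh, ← apply_dev, MulAut.mul_apply, MulAut.mul_apply, MulAut.inv_apply_self,
      hc v (by simpa using hv')]
  have hquad : ∀ (k : MulAut U) (hk : k ∈ J), (∀ v, dev k (dev k v) ∈ N) →
      ((∀ v ∈ N, k (dev k v) = dev k v) ∨ ∀ y ∈ Γ, (orderOf y).Coprime p → ∀ v ∈ N, y v = v) →
      ∀ v : V, dev (res ⟨k, hk⟩) (dev (res ⟨k, hk⟩) v) ∈ pPrimeFix p res.range := by
    intro k hk hkN hkor v
    by_cases hVN : V ≤ N
    · rcases hkor with hc | hc
      · refine (?_ : dev (res ⟨k, hk⟩) (dev (res ⟨k, hk⟩) v) = 1) ▸ one_mem _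
        rw [dev, inv_mul_eq_one]
        exact (Subtype.ext (hc v (hVN v.2))).symm
      · exact absurd (hc yV (hJΓ hyV) hyVc w (hVN hw)) hwne
    · refine hfix (V ⊓ N) (fun j hj r hr => ⟨hVinv j hj r hr.1, hN j (hJΓ hj) r hr.2⟩)
        (lt_of_le_of_ne inf_le_left fun hc => hVN (inf_eq_left.1 hc)) _ ⟨Subtype.property _, ?_⟩
      show dev k (dev k v) ∈ N
      exact hkN v
  obtain ⟨V₁, g₀, hg₀, h₀, hh₀, hgV₁, hhV₁, hgq, hhq, y, hy, hyc, v, hv, hyv⟩ :=
    exists_quad_pair h2 (hU.to_subgroup V) hrange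
      (by
        refine ⟨res ⟨yV, hyV⟩, ⟨_, rfl⟩, hresc _ (by rwa [Subgroup.orderOf_mk]), fun hc => hwne ?_⟩
        exact congrArg Subtype.val (DFunLike.congr_fun hc ⟨w, hw⟩))
      hmin (hquad g (Subgroup.subset_closure (Or.inl rfl)) hq hor)
      (hquad h (Subgroup.subset_closure (Or.inr rfl)) hNh (hor.imp_left hqh))
  -- pass to the subgroup of `G`
  set R₁ := V₁.map V.subtype with hR₁
  set Q := R₁.map U.subtype with hQ
  have hQp : IsPGroup p Q := (hU.to_subgroup R₁).map U.subtype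
  set e : R₁ ≃* Q := R₁.equivMapOfInjective U.subtype U.subtype_injective with he
  set K := Subgroup.closure ({g₀, h₀} : Set (MulAut V)) with hK
  have hKV : K ≤ stab V₁ := by
    rw [hK, Subgroup.closure_le]
    rintro z (rfl | rfl)
    · exact mem_stab_of_forall hgV₁
    · exact mem_stab_of_forall hhV₁
  set e₁ : V₁ ≃* R₁ := V₁.equivMapOfInjective V.subtype V.subtype_injective with he₁
  set f : K →* MulAut Q :=
    ((MulAut.congr (e₁.trans e)).toMonoidHom.comp (resHom V₁)).comp (Subgroup.inclusion hKV) with hf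
  have hfv : ∀ (z : K) (a : V₁), f z (e (e₁ a)) = e (e₁ (resHom V₁ (Subgroup.inclusion hKV z) a)) :=
    fun z a => by simp [hf, MulAut.congr]
  have hcoe : ∀ a : V₁, ((e (e₁ a) : Q) : G) = (((a : V) : U) : G) := fun a => rfl
  have hmem : ∀ (z : MulAut V) (hz : z ∈ K), z ∈ res.range →
      (∀ a ∈ V₁, z (dev z a) = dev z a) →
      f ⟨z, hz⟩ ∈ (Cfsg.pCore p (Cfsg.autInducedBy ⊤ Q)).map
        (Cfsg.autInducedBy ⊤ Q).subtype := by
    intro z hz hzr hzq
    refine mem_pCore_of_quad hst hQp ?_ fun a => ?_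
    · obtain ⟨j, rfl⟩ := hzr
      obtain ⟨n, -, hn⟩ := mem_autInducedBy_iff.1 (hΓ (hJΓ j.2))
      refine mem_autInducedBy_iff.2 ⟨n, Subgroup.mem_top n, fun a => ?_⟩
      obtain ⟨b, rfl⟩ := (e₁.trans e).surjective a
      rw [MulEquiv.trans_apply, hfv, hcoe, hcoe]
      exact hn ((b : V) : U)
    · obtain ⟨b, rfl⟩ := (e₁.trans e).surjective a
      rw [MulEquiv.trans_apply]
      have hd : dev (f ⟨z, hz⟩) (e (e₁ b)) =
          e (e₁ (dev (resHom V₁ (Subgroup.inclusion hKV ⟨z, hz⟩)) b)) := by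
        simp only [dev, hfv, map_mul, map_inv]
      rw [hd, hfv]
      congr 2
      exact Subtype.ext (hzq b b.2)
  have hfp : IsPGroup p f.range := by
    refine (isPGroup_map_pCore (p := p) (Cfsg.autInducedBy ⊤ Q)).to_le ?_
    rw [MonoidHom.range_eq_map, ← Subgroup.closure_closure_coe_preimage (k := ({g₀, h₀} : Set (MulAut V))),
      MonoidHom.map_closure, Subgroup.closure_le]
    rintro _ ⟨⟨z, hz⟩, hzm, rfl⟩
    rcases (show z = g₀ ∨ z = h₀ from hzm) with rfl | rfl
    · exact hmem z hz hg₀ hgq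
    · exact hmem z hz hh₀ hhq
  have h1 := DFunLike.congr_fun (apply_eq_self_of_isPGroup f hfp hy hyc) (e (e₁ ⟨v, hv⟩))
  rw [hfv] at h1
  exact hyv (congrArg Subtype.val (e₁.injective (e.injective h1)))

/-- A `p'`-automorphism induced by `G` is induced by a `p'`-element. -/
theorem exists_pPrime_inducing {U : Subgroup G} {α : MulAut U}
    (hα : α ∈ Cfsg.autInducedBy ⊤ U) (hc : (orderOf α).Coprime p) :
    ∃ n : G, (orderOf n).Coprime p ∧ ∀ v : U, ((α v : U) : G) = n * v * n⁻¹ := by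
  obtain ⟨n, -, hn⟩ := mem_autInducedBy_iff.1 hα
  set n' : Subgroup.normalizer (U : Set G) := ⟨n, mem_normalizer_of_aut hn⟩ with hn'
  have hnα : U.normalizerMonoidHom n' = α := MulEquiv.ext fun v => Subtype.ext (hn v).symm
  obtain ⟨n₁, n₂, he, hn₁, hn₂, m, hm⟩ := ConjFun.exists_decomp (p := p) n'
  refine ⟨n₂, by rwa [Subgroup.orderOf_coe], ?_⟩
  obtain ⟨k, hk⟩ := hn₁ ⟨n₁, Subgroup.mem_zpowers n₁⟩
  have h1 : U.normalizerMonoidHom n₁ ^ p ^ k = 1 := by
    rw [← map_pow, show n₁ ^ p ^ k = 1 from congrArg Subtype.val hk, map_one]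
  have h2 : U.normalizerMonoidHom n₁ ^ orderOf α = 1 := by
    rw [hm, map_pow, hnα, ← pow_mul, mul_comm, pow_mul, pow_orderOf_eq_one, one_pow]
  have h3 : U.normalizerMonoidHom n₁ ^ Nat.gcd (p ^ k) (orderOf α) = 1 := pow_gcd_eq_one.2 ⟨h1, h2⟩
  rw [(hc.symm.pow_left k).gcd_eq_one, pow_one] at h3
  rw [← hnα, he, map_mul, h3, one_mul]
  exact fun v => rfl

/-- The image in `Aut(U)` of an element normalizing `U` lies in `O_p` as a class modulo `C(U)`. -/
theorem mk_mem_pCore_iff {U : Subgroup G} {n : G} (hn : n ∈ Subgroup.normalizer (U : Set G)) :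
    (QuotientGroup.mk (⟨n, hn⟩ : Subgroup.normalizer (U : Set G)) :
        Subgroup.normalizer (U : Set G) ⧸
          (Subgroup.centralizer (U : Set G)).subgroupOf (Subgroup.normalizer (U : Set G))) ∈
      Cfsg.pCore p (Subgroup.normalizer (U : Set G) ⧸
          (Subgroup.centralizer (U : Set G)).subgroupOf (Subgroup.normalizer (U : Set G))) ↔
    U.normalizerMonoidHom ⟨n, hn⟩ ∈ (Cfsg.pCore p (Cfsg.autInducedBy ⊤ U)).map
      (Cfsg.autInducedBy ⊤ U).subtype := by
  set A := Cfsg.autInducedBy (⊤ : Subgroup G) U with hA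
  have hA' : A = U.normalizerMonoidHom.range := by
    rw [hA, autInducedBy_eq_map, Subgroup.top_subgroupOf, MonoidHom.range_eq_map]
  set f := U.normalizerMonoidHom.codRestrict A fun g => hA' ▸ ⟨g, rfl⟩ with hf
  have hfs : Function.Surjective f := by
    rintro ⟨α, hα⟩
    obtain ⟨g, hg⟩ : α ∈ U.normalizerMonoidHom.range := hA' ▸ hα
    exact ⟨g, Subtype.ext hg⟩
  have hker : f.ker =
      (Subgroup.centralizer (U : Set G)).subgroupOf (Subgroup.normalizer (U : Set G)) := by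
    rw [← Subgroup.normalizerMonoidHom_ker]
    ext g
    exact ⟨fun h => congrArg Subtype.val h, fun h => Subtype.ext h⟩
  let e := (QuotientGroup.quotientMulEquivOfEq hker.symm).trans
    (QuotientGroup.quotientKerEquivOfSurjective f hfs)
  rw [← PCore.mem_pCore_congr e]
  constructor
  · exact fun h => ⟨_, h, rfl⟩
  · rintro ⟨k, hk, he⟩
    exact (show k = f ⟨n, hn⟩ from Subtype.ext he) ▸ hk

/-- Transport of membership in `O_p(N(U)/C(U))` along a homomorphism onto the normalizer. -/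
theorem mk_mem_pCore_map {H : Type*} [Group H] [Finite H] (π : G →* H) {U : Subgroup G}
    {W : Subgroup H} (hW : U.map π = W) (hsurj : (Subgroup.normalizer (U : Set G)).map π =
      Subgroup.normalizer (W : Set H)) {n : G} (hn : n ∈ Subgroup.normalizer (U : Set G))
    (hπn : π n ∈ Subgroup.normalizer (W : Set H))
    (h : (QuotientGroup.mk (⟨n, hn⟩ : Subgroup.normalizer (U : Set G)) :
        Subgroup.normalizer (U : Set G) ⧸
          (Subgroup.centralizer (U : Set G)).subgroupOf (Subgroup.normalizer (U : Set G))) ∈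
      Cfsg.pCore p (Subgroup.normalizer (U : Set G) ⧸
          (Subgroup.centralizer (U : Set G)).subgroupOf (Subgroup.normalizer (U : Set G)))) :
    (QuotientGroup.mk (⟨π n, hπn⟩ : Subgroup.normalizer (W : Set H)) :
        Subgroup.normalizer (W : Set H) ⧸
          (Subgroup.centralizer (W : Set H)).subgroupOf (Subgroup.normalizer (W : Set H))) ∈
      Cfsg.pCore p (Subgroup.normalizer (W : Set H) ⧸
          (Subgroup.centralizer (W : Set H)).subgroupOf (Subgroup.normalizer (W : Set H))) := by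
  set φ : Subgroup.normalizer (U : Set G) →* Subgroup.normalizer (W : Set H) :=
    (π.comp (Subgroup.normalizer (U : Set G)).subtype).codRestrict _
      fun x => hsurj ▸ ⟨x, x.2, rfl⟩ with hφ
  have hC : (Subgroup.centralizer (U : Set G)).subgroupOf (Subgroup.normalizer (U : Set G)) ≤
      ((Subgroup.centralizer (W : Set H)).subgroupOf (Subgroup.normalizer (W : Set H))).comap φ := by
    intro x hx
    show π x ∈ Subgroup.centralizer (W : Set H)
    rw [← hW, Subgroup.mem_centralizer_iff]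
    rintro _ ⟨u, hu, rfl⟩
    show π u * π (x : G) = π (x : G) * π u
    rw [← map_mul, ← map_mul]
    exact congrArg π ((Subgroup.mem_centralizer_iff.1 hx) u hu)
  refine PCore.map_pCore_le (QuotientGroup.map _ _ φ hC) ?_ ⟨_, h, rfl⟩
  intro y
  obtain ⟨⟨y, hy⟩, rfl⟩ := QuotientGroup.mk_surjective y
  obtain ⟨x, hx, rfl⟩ := hsurj.ge hy
  exact ⟨QuotientGroup.mk ⟨x, hx⟩, rfl⟩

theorem quad_mod_of_map {H : Type*} [Group H] (π : G →* H) {U : Subgroup G} {n : G}
    (hn : n ∈ Subgroup.normalizer (U : Set G))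
    (hq : ⁅⁅U.map π, Subgroup.zpowers (π n)⁆, Subgroup.zpowers (π n)⁆ = ⊥) (v : U) :
    π (dev (U.normalizerMonoidHom ⟨n, hn⟩) (dev (U.normalizerMonoidHom ⟨n, hn⟩) v) : U) = 1 := by
  have h : ⁅(π (v : G))⁻¹, π n⁆ ∈
      Subgroup.centralizer ((Subgroup.zpowers (π n) : Subgroup H) : Set H) :=
    (Subgroup.commutator_eq_bot_iff_le_centralizer.1 hq) (Subgroup.commutator_mem_commutator
      (inv_mem (Subgroup.mem_map_of_mem π v.2)) (Subgroup.mem_zpowers (π n)))
  have h1 := (Subgroup.mem_centralizer_iff.1 h) (π n) (Subgroup.mem_zpowers (π n))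
  have hd : ∀ w : U, π ((dev (U.normalizerMonoidHom ⟨n, hn⟩) w : U) : G) = ⁅(π (w : G))⁻¹, π n⁆ := by
    intro w
    rw [← map_inv, ← map_commutatorElement]
    congr 1
    show (w : G)⁻¹ * (n * w * n⁻¹) = _
    rw [commutatorElement_def]
    group
  rw [hd, hd, commutatorElement_inv, commutatorElement_eq_one_iff_mul_comm]
  rw [← commutatorElement_inv (π (v : G))⁻¹ (π n)]
  exact ((show Commute (π n) ⁅(π (v : G))⁻¹, π n⁆ from h1).inv_right).eq.symm

/-- `G/M` for a normal `p'`-subgroup `M`. -/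
theorem isNormalizerPStable_quotient_coprime (hst : Cfsg.IsNormalizerPStable p G) (M : Subgroup G)
    [M.Normal] (hM : (Nat.card M).Coprime p) : Cfsg.IsNormalizerPStable p (G ⧸ M) := by
  intro W hW y hy hq
  set π := QuotientGroup.mk' M with hπ
  obtain ⟨S⟩ : Nonempty (Sylow p (W.comap π)) := inferInstance
  set U := (S : Subgroup (W.comap π)).map (W.comap π).subtype with hUdef
  have hUp : IsPGroup p U := S.2.map _
  have hsurjW : Function.Surjective (π.subgroupComap W) := fun w => by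
    obtain ⟨x, hx⟩ := QuotientGroup.mk'_surjective M (w : G ⧸ M)
    exact ⟨⟨x, by rw [Subgroup.mem_comap, hx]; exact w.2⟩, Subtype.ext hx⟩
  have hUW : U.map π = W := by
    refine le_antisymm ?_ fun w hw => ?_
    · rintro _ ⟨_, ⟨x, -, rfl⟩, rfl⟩
      exact x.2
    · have htop : (⊤ : Subgroup W) = (S.mapSurjective hsurjW : Subgroup W) :=
        (S.mapSurjective hsurjW).3 (hW.to_subgroup ⊤) le_top
      have hmem : (⟨w, hw⟩ : W) ∈ (S : Subgroup (W.comap π)).map (π.subgroupComap W) := by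
        rw [← Sylow.coe_mapSurjective hsurjW S, ← htop]
        exact Subgroup.mem_top _
      obtain ⟨x, hx, he⟩ := hmem
      exact ⟨x, ⟨x, hx, rfl⟩, congrArg Subtype.val he⟩
  have hsurj : (Subgroup.normalizer (U : Set G)).map π = Subgroup.normalizer (W : Set (G ⧸ M)) := by
    refine le_antisymm ((Subgroup.le_normalizer_map π).trans_eq (by rw [hUW])) ?_
    rw [← hUW]
    exact PComplement.normalizer_map_le M hM U hUp
  obtain ⟨n, hn, rfl⟩ := hsurj.ge hy
  refine mk_mem_pCore_map π hUW hsurj hn hy ((mk_mem_pCore_iff hn).2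
    (mem_pCore_of_quad hst hUp (conjAut_mem_autInducedBy (Subgroup.mem_top n) hn) fun v => ?_))
  set χ := U.normalizerMonoidHom ⟨n, hn⟩
  have h1 := quad_mod_of_map π hn (by rw [hUW]; exact hq) v
  have h2 : ((dev χ (dev χ v) : U) : G) = 1 :=
    Subgroup.disjoint_def.1 (PCore.disjoint_of_isPGroup_of_coprime hUp hM) (Subtype.property _)
      ((QuotientGroup.eq_one_iff _).1 h1)
  rw [apply_eq_mul_dev χ (dev χ v), show dev χ (dev χ v) = 1 from Subtype.ext h2, mul_one]

/-- `G/Q` for a normal `p`-subgroup `Q` centralized by the `p'`-elements. -/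
theorem isNormalizerPStable_quotient_pCore (h2 : p ≠ 2) (hst : Cfsg.IsNormalizerPStable p G)
    (Q : Subgroup G) [Q.Normal] (hQ : IsPGroup p Q)
    (hcen : ∀ n : G, (orderOf n).Coprime p → n ∈ Subgroup.centralizer (Q : Set G)) :
    Cfsg.IsNormalizerPStable p (G ⧸ Q) := by
  intro W hW y hy hq
  set π := QuotientGroup.mk' Q with hπ
  set U := W.comap π with hU
  have hker : π.ker = Q := QuotientGroup.ker_mk' Q
  have hUp : IsPGroup p U := hW.comap_of_ker_isPGroup π (by rwa [hker])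
  have hUW : U.map π = W := Subgroup.map_comap_eq_self_of_surjective (QuotientGroup.mk'_surjective Q) W
  have hsurj : (Subgroup.normalizer (U : Set G)).map π = Subgroup.normalizer (W : Set (G ⧸ Q)) := by
    rw [hU, ← Subgroup.comap_normalizer_eq_of_surjective _ (QuotientGroup.mk'_surjective Q),
      Subgroup.map_comap_eq_self_of_surjective (QuotientGroup.mk'_surjective Q)]
  have hQU : Q ≤ U := by rw [← hker]; exact MonoidHom.ker_le_comap π W
  obtain ⟨n, hn, rfl⟩ := hsurj.ge hy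
  refine mk_mem_pCore_map π hUW hsurj hn hy ((mk_mem_pCore_iff hn).2 ?_)
  refine mem_pCore_of_quadMod h2 hst hUp _ le_rfl (Q.subgroupOf U) (fun α hα v hv => ?_)
    (conjAut_mem_autInducedBy (Subgroup.mem_top n) hn) (fun v => ?_) (Or.inr fun α hα hc v hv => ?_)
  · obtain ⟨m, -, hm⟩ := mem_autInducedBy_iff.1 hα
    rw [Subgroup.mem_subgroupOf, hm]
    exact (inferInstance : Q.Normal).conj_mem _ hv m
  · rw [Subgroup.mem_subgroupOf, ← QuotientGroup.eq_one_iff]
    exact quad_mod_of_map π hn (by rw [hUW]; exact hq) v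
  · obtain ⟨m, hm, hmv⟩ := exists_pPrime_inducing hα hc
    refine Subtype.ext ?_
    rw [hmv, ← Subgroup.mem_centralizer_iff.1 (hcen m hm) v hv, mul_inv_cancel_right]

end Cfsg.Agent.PStability
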