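import Cfsg.Agent.Lib.PSL2.TwoSylow
import Cfsg.Agent.Lib.PGV.Basic

/-!
Two quadratic operators generating a non-`p`-group on an irreducible module.

* `span_of_irreducible`: the images of `N = a - 1`, `M = b - 1` span;
* `exists_neg_one`: some element acts as `-1`;
* `form_eq_zero`: an alternating form, equivariant for an action with unipotent image on the
  values, vanishes on the image of `N` and on the image of `M`.
-/

set_option autoImplicit false

namespace Cfsg.Agent.PStability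

open scoped MatrixGroups

universe u

section Irreducible

variable {W : Type u} [AddCommGroup W] {N M : W →+ W}
  (hN : ∀ x, N (N x) = 0) (hM : ∀ x, M (M x) = 0)
  (hirr : ∀ U : AddSubgroup W, (∀ x ∈ U, N x ∈ U) → (∀ x ∈ U, M x ∈ U) → U = ⊥ ∨ U = ⊤)
  (hN0 : ∃ x, N x ≠ 0) (hM0 : ∃ x, M x ≠ 0)

include hN hM hirr hN0

theorem span_of_irreducible (w : W) : ∃ a b, w = N a + M b := by
  have h : N.range ⊔ M.range = ⊤ := by
    refine (hirr _ ?_ ?_).resolve_left fun h => ?_
    · exact fun x _ => AddSubgroup.mem_sup_left ⟨x, rfl⟩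
    · exact fun x _ => AddSubgroup.mem_sup_right ⟨x, rfl⟩
    · obtain ⟨x, hx⟩ := hN0
      exact hx (by simpa [h] using (AddSubgroup.mem_sup_left ⟨x, rfl⟩ : N x ∈ N.range ⊔ M.range))
  obtain ⟨_, ⟨a, rfl⟩, _, ⟨b, rfl⟩, e⟩ :=
    AddSubgroup.mem_sup.1 (show w ∈ N.range ⊔ M.range from h ▸ AddSubgroup.mem_top w)
  exact ⟨a, b, e.symm⟩

theorem eq_zero_of_ker_ker {x : W} (h1 : N x = 0) (h2 : M x = 0) : x = 0 := by
  have h : N.ker ⊓ M.ker = ⊥ := by
    refine (hirr _ ?_ ?_).resolve_right fun h => ?_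
    · intro y hy
      rw [(AddSubgroup.mem_inf.1 hy).1]
      exact zero_mem _
    · intro y hy
      rw [show M y = 0 from (AddSubgroup.mem_inf.1 hy).2]
      exact zero_mem _
    · obtain ⟨y, hy⟩ := hN0
      exact hy (AddSubgroup.mem_inf.1 (h ▸ AddSubgroup.mem_top y : y ∈ N.ker ⊓ M.ker)).1
  have : x ∈ N.ker ⊓ M.ker := ⟨h1, h2⟩
  rwa [h, AddSubgroup.mem_bot] at this

include hM0

theorem eq_zero_of_NM_eq_zero {x : W} (h : N (M x) = 0) : M x = 0 :=
  eq_zero_of_ker_ker hN hM hirr hN0 h (hM x)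

end Irreducible

section Involution

variable {W : Type u} [AddCommGroup W] [Finite W] {p : ℕ} [Fact p.Prime]

set_option maxHeartbeats 1000000 in
/-- Some element of a group generated by two quadratic elements acts as `-1`, when the module is
irreducible and the image is not a `p`-group. -/
theorem exists_neg_one (h2 : p ≠ 2) (hp : ∀ w : W, p • w = 0) {J : Type*} [Group J] [Finite J]
    {a b : J} (hgen : Subgroup.closure ({a, b} : Set J) = ⊤) (ρ : J →* AddMonoid.End W)
    {N M : AddMonoid.End W} (ha : ρ a = 1 + N) (hb : ρ b = 1 + M) (hN : N * N = 0) (hM : M * M = 0)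
    (hirr : ∀ U : AddSubgroup W, (∀ x ∈ U, N x ∈ U) → (∀ x ∈ U, M x ∈ U) → U = ⊥ ∨ U = ⊤)
    (hN0 : ∃ x, N x ≠ 0) (hM0 : ∃ x, M x ≠ 0)
    (hnp : ∃ j : J, (orderOf j).Coprime p ∧ ρ j ≠ 1) :
    ∃ j : J, ρ j = -1 := by
  classical
  have hN' : ∀ x, N (N x) = 0 := fun x => DFunLike.congr_fun hN x
  have hM' : ∀ x, M (M x) = 0 := fun x => DFunLike.congr_fun hM x
  have hspan := span_of_irreducible hN' hM' hirr hN0
  set A : AddMonoid.End W := N * M + M * N with hA
  have hcN : N * A = A * N := by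
    rw [hA, mul_add, add_mul, ← mul_assoc N N M, hN, zero_mul, mul_assoc M N N, hN, mul_zero,
      zero_add, add_zero, mul_assoc]
  have hcM : M * A = A * M := by
    rw [hA, mul_add, add_mul, ← mul_assoc M M N, hM, zero_mul, mul_assoc N M M, hM, mul_zero,
      zero_add, add_zero, mul_assoc]
  -- the field generated by `A`
  let E : Subring (AddMonoid.End W) := Subring.closure {A}
  let _ : CommRing E := Subring.closureCommRingOfComm (by rintro x rfl y rfl; rfl)
  have : Finite (AddMonoid.End W) :=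
    Finite.of_injective (fun f : AddMonoid.End W => (f : W → W)) DFunLike.coe_injective
  obtain ⟨w₀, hw₀⟩ := hN0
  have : Nontrivial E :=
    ⟨⟨1, 0, fun h => hw₀ (by
      have h1 : N w₀ = (0 : AddMonoid.End W) (N w₀) := DFunLike.congr_fun
        (congrArg Subtype.val h : ((1 : E) : AddMonoid.End W) = ((0 : E) : AddMonoid.End W)) (N w₀)
      simpa using h1)⟩⟩
  have hcomm : ∀ e : E, Commute (e : AddMonoid.End W) N ∧ Commute (e : AddMonoid.End W) M := by
    rintro ⟨e, he⟩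
    induction he using Subring.closure_induction with
    | mem x hx =>
      obtain rfl : x = A := hx
      exact ⟨hcN.symm, hcM.symm⟩
    | zero => exact ⟨Commute.zero_left N, Commute.zero_left M⟩
    | one => exact ⟨Commute.one_left N, Commute.one_left M⟩
    | add x y _ _ hx hy => exact ⟨hx.1.add_left hy.1, hx.2.add_left hy.2⟩
    | neg x _ hx => exact ⟨hx.1.neg_left, hx.2.neg_left⟩
    | mul x y _ _ hx hy => exact ⟨hx.1.mul_left hy.1, hx.2.mul_left hy.2⟩
  have hinjE : ∀ e : E, e ≠ 0 → ∀ w, (e : AddMonoid.End W) w = 0 → w = 0 := by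
    intro e he w hw
    have h := hirr (AddMonoidHom.ker (e : AddMonoid.End W)) (fun x hx => ?_) (fun x hx => ?_)
    · rcases h with h | h
      · exact (AddSubgroup.eq_bot_iff_forall _).1 h w hw
      · exact absurd (Subtype.ext (AddMonoidHom.ext fun x =>
          (h ▸ AddSubgroup.mem_top x : x ∈ AddMonoidHom.ker (e : AddMonoid.End W)) :
            (e : AddMonoid.End W) = 0)) he
    · show (e : AddMonoid.End W) (N x) = 0
      rw [show (e : AddMonoid.End W) (N x) = N ((e : AddMonoid.End W) x) from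
        DFunLike.congr_fun (hcomm e).1.eq x, show (e : AddMonoid.End W) x = 0 from hx, map_zero]
    · show (e : AddMonoid.End W) (M x) = 0
      rw [show (e : AddMonoid.End W) (M x) = M ((e : AddMonoid.End W) x) from
        DFunLike.congr_fun (hcomm e).2.eq x, show (e : AddMonoid.End W) x = 0 from hx, map_zero]
  have : NoZeroDivisors E := ⟨fun {x y} hxy => by
    by_contra hc
    push Not at hc
    refine hc.2 (Subtype.ext (AddMonoidHom.ext fun w => hinjE x hc.1 _ ?_))
    exact DFunLike.congr_fun (congrArg Subtype.val hxy) w⟩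
  have : IsDomain E := NoZeroDivisors.to_isDomain E
  let _ : Field E := (Finite.isDomain_to_isField E).toField
  have : CharP E p :=
    (CharP.charP_iff_prime_eq_zero (Fact.out : p.Prime)).2 (Subtype.ext (AddMonoidHom.ext fun w => by
      simp only [SubringClass.coe_natCast]
      exact (AddMonoid.End.natCast_apply p w).trans (hp w)))
  let _ : Fintype E := Fintype.ofFinite E
  -- the coordinates
  set x₀ := N w₀ with hx₀
  let Φ : E × E →+ W :=
    { toFun := fun c => (c.1 : AddMonoid.End W) x₀ + (c.2 : AddMonoid.End W) (M x₀)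
      map_zero' := by simp
      map_add' := fun c d => add_add_add_comm _ _ _ _ }
  have hΦ : ∀ c, Φ c = (c.1 : AddMonoid.End W) x₀ + (c.2 : AddMonoid.End W) (M x₀) := fun _ => rfl
  have hA1 : ∀ x, A (N x) = N (M (N x)) := fun x => by
    show N (M (N x)) + M (N (N x)) = _
    rw [hN' x, map_zero, add_zero]
  set A' : E := ⟨A, Subring.subset_closure rfl⟩ with hA'
  have hA0 : A' ≠ 0 := by
    intro h
    refine hw₀ (eq_zero_of_ker_ker hN' hM' hirr ⟨w₀, hw₀⟩ (hN' w₀) ?_)
    refine eq_zero_of_NM_eq_zero hN' hM' hirr ⟨w₀, hw₀⟩ hM0 ?_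
    refine (hA1 w₀).symm.trans ?_
    exact DFunLike.congr_fun (congrArg Subtype.val h : A = 0) (N w₀)
  have hNΦ : ∀ c : E × E, N (Φ c) = Φ (A' * c.2, 0) := by
    intro c
    rw [hΦ, hΦ, map_add,
      show N ((c.1 : AddMonoid.End W) x₀) = (c.1 : AddMonoid.End W) (N x₀) from
        (DFunLike.congr_fun (hcomm c.1).1.eq x₀).symm,
      show N ((c.2 : AddMonoid.End W) (M x₀)) = (c.2 : AddMonoid.End W) (N (M x₀)) from
        (DFunLike.congr_fun (hcomm c.2).1.eq (M x₀)).symm]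
    rw [hx₀, hN', map_zero, zero_add, ← hA1]
    have : (A' * c.2 : E) = c.2 * A' := mul_comm _ _
    show (c.2 : AddMonoid.End W) (A (N w₀)) = ((A' * c.2 : E) : AddMonoid.End W) (N w₀) + _
    rw [this]
    simp [hA']
  have hMΦ : ∀ c : E × E, M (Φ c) = Φ (0, c.1) := by
    intro c
    rw [hΦ, hΦ, map_add,
      show M ((c.1 : AddMonoid.End W) x₀) = (c.1 : AddMonoid.End W) (M x₀) from
        (DFunLike.congr_fun (hcomm c.1).2.eq x₀).symm,
      show M ((c.2 : AddMonoid.End W) (M x₀)) = (c.2 : AddMonoid.End W) (M (M x₀)) from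
        (DFunLike.congr_fun (hcomm c.2).2.eq (M x₀)).symm, hM', map_zero, add_zero]
    simp
  have hΦi : Function.Injective Φ := by
    refine (injective_iff_map_eq_zero Φ).2 fun c hc => ?_
    have h2' : c.2 = 0 := by
      by_contra hne
      have h := hNΦ c
      rw [hc, map_zero, hΦ] at h
      simp only [ZeroMemClass.coe_zero, AddMonoid.End.zero_apply, add_zero] at h
      exact hw₀ (hinjE _ (mul_ne_zero hA0 hne) _ h.symm)
    have h1 : c.1 = 0 := by
      by_contra hne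
      rw [hΦ, h2'] at hc
      simp only [ZeroMemClass.coe_zero, AddMonoid.End.zero_apply, add_zero] at hc
      exact hw₀ (hinjE _ hne _ hc)
    exact Prod.ext h1 h2'
  have hΦs : Function.Surjective Φ := by
    have h : Φ.range = ⊤ := by
      refine (hirr _ ?_ ?_).resolve_left fun h => hw₀ ?_
      · rintro _ ⟨c, rfl⟩; exact ⟨_, (hNΦ c).symm⟩
      · rintro _ ⟨c, rfl⟩; exact ⟨_, (hMΦ c).symm⟩
      · have h1 : Φ (1, 0) ∈ Φ.range := ⟨_, rfl⟩
        rw [h, AddSubgroup.mem_bot, hΦ] at h1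
        simpa using h1
    exact AddMonoidHom.range_eq_top.1 h
  let e : E × E ≃+ W := AddEquiv.ofBijective Φ ⟨hΦi, hΦs⟩
  let ψf : SL(2, E) → AddMonoid.End W := fun m =>
    (e.toAddMonoidHom.comp
      { toFun := fun c : E × E => (m 0 0 * c.1 + m 0 1 * c.2, m 1 0 * c.1 + m 1 1 * c.2)
        map_zero' := by simp
        map_add' := fun c d => by
          refine Prod.ext ?_ ?_ <;> simp only [Prod.fst_add, Prod.snd_add] <;> ring }).comp
      e.symm.toAddMonoidHom
  have hψf : ∀ m c, ψf m (Φ c) = Φ (m 0 0 * c.1 + m 0 1 * c.2, m 1 0 * c.1 + m 1 1 * c.2) := by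
    intro m c
    show Φ (m 0 0 * (e.symm (e c)).1 + m 0 1 * (e.symm (e c)).2,
      m 1 0 * (e.symm (e c)).1 + m 1 1 * (e.symm (e c)).2) = _
    rw [AddEquiv.symm_apply_apply]
  let ψ : SL(2, E) →* AddMonoid.End W :=
    { toFun := ψf
      map_one' := AddMonoidHom.ext fun w => by
        obtain ⟨c, rfl⟩ := hΦs w
        refine (hψf 1 c).trans ?_
        show Φ _ = Φ c
        congr 1
        refine Prod.ext ?_ ?_ <;> simp
      map_mul' := fun m n => AddMonoidHom.ext fun w => by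
        obtain ⟨c, rfl⟩ := hΦs w
        show ψf (m * n) (Φ c) = ψf m (ψf n (Φ c))
        rw [hψf, hψf, hψf, PSL2.mul00, PSL2.mul01, PSL2.mul10, PSL2.mul11]
        congr 1
        refine Prod.ext ?_ ?_ <;> ring }
  have hψi : Function.Injective ψ := by
    intro m n h
    have h1 := fun c => hΦi ((hψf m c).symm.trans ((DFunLike.congr_fun h (Φ c)).trans (hψf n c)))
    have h10 := h1 (1, 0)
    have h01 := h1 (0, 1)
    simp only [mul_one, mul_zero, add_zero, zero_add, Prod.mk.injEq] at h10 h01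
    exact PSL2.ext2 h10.1 h01.1 h10.2 h01.2
  have hψa : ψ (PSL2.uu A') = ρ a := AddMonoidHom.ext fun w => by
    obtain ⟨c, rfl⟩ := hΦs w
    rw [ha]
    show ψf _ (Φ c) = Φ c + N (Φ c)
    rw [hψf, hNΦ, ← map_add]
    congr 1
    refine Prod.ext ?_ ?_ <;> simp [PSL2.uu]
  have hψb : ψ (PSL2.ll 1) = ρ b := AddMonoidHom.ext fun w => by
    obtain ⟨c, rfl⟩ := hΦs w
    rw [hb]
    show ψf _ (Φ c) = Φ c + M (Φ c)
    rw [hψf, hMΦ, ← map_add]
    congr 1
    refine Prod.ext ?_ ?_ <;> simp [PSL2.ll, add_comm]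
  let X : Subgroup SL(2, E) :=
    { carrier := {m | ∃ j, ρ j = ψ m}
      one_mem' := ⟨1, by rw [map_one, map_one]⟩
      mul_mem' := fun {m n} ⟨i, hi⟩ ⟨j, hj⟩ => ⟨i * j, by rw [map_mul, map_mul, hi, hj]⟩
      inv_mem' := fun {m} ⟨j, hj⟩ => ⟨j⁻¹, by
        calc ρ j⁻¹ = ρ j⁻¹ * (ψ m * ψ m⁻¹) := by
              rw [← map_mul, mul_inv_cancel, map_one, mul_one]
          _ = ρ (j⁻¹ * j) * ψ m⁻¹ := by rw [← hj, map_mul, mul_assoc]
          _ = ψ m⁻¹ := by rw [inv_mul_cancel, map_one, one_mul]⟩ }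
  have hXa : PSL2.uu A' ∈ X := ⟨a, hψa.symm⟩
  have hXb : PSL2.ll (1 : E) ∈ X := ⟨b, hψb.symm⟩
  have hcard : 1 < Nat.card (Sylow p X) := by
    by_contra hle
    have : Subsingleton (Sylow p X) := Finite.card_le_one_iff_subsingleton.1 (by omega)
    obtain ⟨P⟩ : Nonempty (Sylow p X) := inferInstance
    have hmem : ∀ m : X, m ^ p = 1 → m ∈ (P : Subgroup X) := by
      intro m hm
      have hQ : IsPGroup p (Subgroup.zpowers m) := by
        refine IsPGroup.of_card_dvd_pow (n := 1) ?_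
        rw [Nat.card_zpowers, pow_one]
        exact orderOf_dvd_of_pow_eq_one hm
      obtain ⟨Q, hQle⟩ := hQ.exists_le_sylow
      rw [Subsingleton.elim Q P] at hQle
      exact hQle (Subgroup.mem_zpowers m)
    have hall : ∀ j : J, ∃ m ∈ (P : Subgroup X), ρ j = ψ (m : SL(2, E)) := by
      intro j
      have hj : j ∈ Subgroup.closure ({a, b} : Set J) := hgen ▸ Subgroup.mem_top j
      induction hj using Subgroup.closure_induction with
      | mem z hz =>
        rcases hz with rfl | rfl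
        · exact ⟨⟨_, hXa⟩, hmem _ (Subtype.ext (by
            rw [Subgroup.coe_pow, PSL2.uu_pow, CharP.cast_eq_zero E p, zero_mul, PSL2.uu_zero]
            rfl)), hψa.symm⟩
        · exact ⟨⟨_, hXb⟩, hmem _ (Subtype.ext (by
            rw [Subgroup.coe_pow, PSL2.ll_pow, CharP.cast_eq_zero E p, zero_mul, PSL2.ll_zero]
            rfl)), hψb.symm⟩
      | one => exact ⟨1, one_mem _, by simp⟩
      | mul x y _ _ hx hy =>
        obtain ⟨m, hm, hx⟩ := hx
        obtain ⟨n, hn, hy⟩ := hy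
        exact ⟨m * n, mul_mem hm hn, by simp [hx, hy]⟩
      | inv x _ hx =>
        obtain ⟨m, hm, hx⟩ := hx
        refine ⟨m⁻¹, inv_mem hm, ?_⟩
        calc ρ x⁻¹ = ρ x⁻¹ * (ψ (m : SL(2, E)) * ψ ((m⁻¹ : X) : SL(2, E))) := by
              rw [← map_mul, Subgroup.coe_inv, mul_inv_cancel, map_one, mul_one]
          _ = ρ (x⁻¹ * x) * ψ ((m⁻¹ : X) : SL(2, E)) := by rw [← hx, map_mul, mul_assoc]
          _ = _ := by rw [inv_mul_cancel, map_one, one_mul]
    obtain ⟨j, hj, hjne⟩ := hnp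
    obtain ⟨m, hm, hjm⟩ := hall j
    obtain ⟨k, hk⟩ := P.isPGroup' ⟨m, hm⟩
    refine hjne ?_
    have h1 : (m : SL(2, E)) ^ p ^ k = 1 := by
      simpa using congrArg (fun z : (P : Subgroup X) => ((z : X) : SL(2, E))) hk
    have h3 : (m : SL(2, E)) ^ orderOf j = 1 :=
      hψi (by rw [map_pow, ← hjm, ← map_pow, pow_orderOf_eq_one, map_one, map_one])
    have h4 : (m : SL(2, E)) ^ Nat.gcd (p ^ k) (orderOf j) = 1 := pow_gcd_eq_one.2 ⟨h1, h3⟩
    rw [(hj.symm.pow_left k).gcd_eq_one, pow_one] at h4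
    rw [hjm, h4, map_one]
  obtain ⟨K, hKX, ⟨θ⟩⟩ := PSL2.exists_subgroup_mulEquiv (p := p) h2 X hcard
  set z : K := θ.symm (-1) with hz
  have hne2 : (2 : ZMod p) ≠ 0 := PSL2.two_ne_zero_of_charP h2
  have hz1 : (z : SL(2, E)) * z = 1 := by
    have : z * z = 1 := by rw [hz, ← map_mul, neg_mul_neg, one_mul, map_one]
    exact congrArg Subtype.val this
  rcases PSL2.eq_pm_of_mul_self_eq_one (PSL2.two_ne_zero_of_charP (p := p) h2) hz1 with h | h
  · exfalso
    have h1 : (-1 : SL(2, ZMod p)) = 1 := θ.symm.injective (by rw [map_one]; exact Subtype.ext h)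
    have h00 := congrArg (fun m : SL(2, ZMod p) => m 0 0) h1
    simp only [Matrix.SpecialLinearGroup.coe_neg, Matrix.SpecialLinearGroup.coe_one,
      Matrix.neg_apply, Matrix.one_apply_eq] at h00
    exact hne2 (by linear_combination -h00)
  · obtain ⟨j, hj⟩ := hKX z.2
    refine ⟨j, AddMonoidHom.ext fun w => ?_⟩
    obtain ⟨c, rfl⟩ := hΦs w
    rw [hj, h]
    show ψf (-1) (Φ c) = -Φ c
    rw [hψf, ← map_neg]
    congr 1
    refine Prod.ext ?_ ?_ <;> simp

end Involution

section Form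

variable {W M' : Type*} [AddCommGroup W] [AddCommGroup M'] (B : W →+ W →+ M')
  (halt : ∀ u, B u u = 0) {k : ℕ} (hk : ∀ x : M', k • (x + x) = x)

include halt in
theorem form_swap (u v : W) : B v u = -B u v := by
  have h := halt (u + v)
  simp only [map_add, AddMonoidHom.add_apply, halt, zero_add, add_zero] at h
  rw [eq_neg_iff_add_eq_zero, ← h, add_comm]

/-- The conditions modulo `R`. -/
def FormGood (N M : W →+ W) (R : AddSubgroup M') : Prop :=
  (∀ u v, B (M u) (M v) ∈ R) ∧ ∀ u v, B (N u) v - B (N v) u ∈ R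

include halt hk in
theorem formGood_step {N M : W →+ W} (hN : ∀ x, N (N x) = 0) (hspan : ∀ w, ∃ a b, w = N a + M b)
    (σ : M' →+ M') (hσ : ∀ u v, σ (B u v) = B (u + N u) (v + N v)) {R R' : AddSubgroup M'}
    (h : FormGood B N M R) (hR : ∀ x ∈ R, σ x - x ∈ R') :
    (∀ u v, B (N u) (N v) ∈ R') ∧ ∀ u v, B (N u) v - B (N v) u ∈ R' := by
  have hα : ∀ u v, B (N u) (N v) ∈ R' := by
    intro u v
    have h1 := hR _ (h.2 u v)
    rw [map_sub, hσ, hσ, hN u, hN v, add_zero, add_zero, map_add, map_add] at h1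
    have h2 : B (N u) (N v) + B (N u) (N v) ∈ R' := by
      rw [show B (N v) (N u) = -B (N u) (N v) from form_swap B halt _ _] at h1
      convert h1 using 1
      abel
    rw [← hk (B (N u) (N v))]
    exact R'.nsmul_mem h2 k
  refine ⟨hα, fun u v => ?_⟩
  have hsym : ∀ a b, B (N (M a)) (M b) - B (N (M b)) (M a) ∈ R' := by
    intro a b
    have h1 := hR _ (h.1 a b)
    rw [hσ, map_add, map_add, AddMonoidHom.add_apply, AddMonoidHom.add_apply] at h1
    have h2 := hα (M a) (M b)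
    rw [show B (M a) (N (M b)) = -B (N (M b)) (M a) from form_swap B halt _ _] at h1
    convert sub_mem h1 h2 using 1
    abel
  obtain ⟨a₁, a₂, rfl⟩ := hspan u
  obtain ⟨b₁, b₂, rfl⟩ := hspan v
  have hu : N (N a₁ + M a₂) = N (M a₂) := by rw [map_add, hN, zero_add]
  have hv : N (N b₁ + M b₂) = N (M b₂) := by rw [map_add, hN, zero_add]
  rw [hu, hv, map_add, map_add]
  have := sub_mem (add_mem (hα (M a₂) b₁) (hsym a₂ b₂)) (hα (M b₂) a₁)
  convert this using 1
  abel

include halt hk in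
/-- The form vanishes on both images. -/
theorem form_eq_zero [Finite M'] {N M : W →+ W} (hN : ∀ x, N (N x) = 0) (hM : ∀ x, M (M x) = 0)
    (hspan : ∀ w, ∃ a b, w = N a + M b)
    (σ τ : M' →+ M') (hσ : ∀ u v, σ (B u v) = B (u + N u) (v + N v))
    (hτ : ∀ u v, τ (B u v) = B (u + M u) (v + M v))
    (hlt : ∀ R : AddSubgroup M', R ≠ ⊥ → (∀ x ∈ R, σ x ∈ R) → (∀ x ∈ R, τ x ∈ R) →
      ∃ R' : AddSubgroup M', R' < R ∧ (∀ x ∈ R', σ x ∈ R') ∧ (∀ x ∈ R', τ x ∈ R') ∧
        (∀ x ∈ R, σ x - x ∈ R') ∧ ∀ x ∈ R, τ x - x ∈ R')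
    (u v : W) : B (N u) (N v) = 0 ∧ B (M u) (M v) = 0 := by
  set 𝓡 : Set (AddSubgroup M') := {R | (∀ x ∈ R, σ x ∈ R) ∧ (∀ x ∈ R, τ x ∈ R) ∧
    FormGood B N M R ∧ FormGood B M N R} with h𝓡
  have htop : (⊤ : AddSubgroup M') ∈ 𝓡 := ⟨fun _ _ => trivial, fun _ _ => trivial,
    ⟨fun _ _ => trivial, fun _ _ => trivial⟩, fun _ _ => trivial, fun _ _ => trivial⟩
  obtain ⟨R, hR⟩ := Set.Finite.exists_minimal (Set.toFinite 𝓡) ⟨⊤, htop⟩
  obtain ⟨hσR, hτR, hg1, hg2⟩ := hR.prop
  have hR0 : R = ⊥ := by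
    by_contra hne
    obtain ⟨R', hlt', hσ', hτ', h1, h2⟩ := hlt R hne hσR hτR
    have hspan' : ∀ w, ∃ a b, w = M a + N b := fun w => by
      obtain ⟨a, b, h⟩ := hspan w
      exact ⟨b, a, h.trans (add_comm _ _)⟩
    obtain ⟨a1, a2⟩ := formGood_step B halt hk hN hspan σ hσ hg1 h1
    obtain ⟨b1, b2⟩ := formGood_step B halt hk hM hspan' τ hτ hg2 h2
    exact hlt'.not_ge (hR.le_of_le ⟨hσ', hτ', ⟨b1, a2⟩, a1, b2⟩ hlt'.le)
  exact ⟨(AddSubgroup.eq_bot_iff_forall R).1 hR0 _ (hg2.1 u v),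
    (AddSubgroup.eq_bot_iff_forall R).1 hR0 _ (hg1.1 u v)⟩

end Form

end Cfsg.Agent.PStability
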