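import Cfsg.Agent.Lib.PStability.QuadLinear
import Cfsg.Agent.Lib.ConjFun.Parts
import Cfsg.Agent.Lib.PGroup.Class2
import Cfsg.Agent.Lib.PGroup.Frattini

/-!
A pair of automorphisms, quadratic modulo the fixed points of the `p'`-elements they generate.

`exists_quad_pair`: if `V` is minimal, some pair with the same action on `V` modulo those fixed
points is quadratic on a subgroup, on which it generates a non-`p`-group (`p` odd).
-/

set_option autoImplicit false

namespace Cfsg.Agent.PStability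

open scoped commutatorElement

variable {V : Type*} [Group V]

/-- `v⁻¹ x(v)`. -/
def dev (x : MulAut V) (v : V) : V := v⁻¹ * x v

theorem apply_eq_mul_dev (x : MulAut V) (v : V) : x v = v * dev x v :=
  (mul_inv_cancel_left v (x v)).symm

theorem apply_dev (j x : MulAut V) (v : V) : j (dev x v) = dev (j * x * j⁻¹) (j v) := by
  simp [dev, MulAut.mul_apply, MulAut.inv_def]

theorem pow_apply_of_fixed {x : MulAut V} {v : V} (h : x (dev x v) = dev x v) (n : ℕ) :
    (x ^ n) v = v * dev x v ^ n := by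
  induction n with
  | zero => simp
  | succ n ih =>
    rw [pow_succ', MulAut.mul_apply, ih, map_mul, map_pow, h, apply_eq_mul_dev x v, pow_succ',
      mul_assoc]

/-- The elementwise condition is the quadratic condition of the definition. -/
theorem dev_fixed_iff (x : MulAut V) (a : V) :
    (x a⁻¹) * a * (x a⁻¹) * (x (x a)) = 1 ↔ x (dev x a) = dev x a := by
  rw [dev, map_mul, map_inv]
  constructor <;> intro h
  · calc (x a)⁻¹ * x (x a) = a⁻¹ * x a * ((x a)⁻¹ * a * (x a)⁻¹ * x (x a)) := by group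
      _ = _ := by rw [h, mul_one]
  · calc (x a)⁻¹ * a * (x a)⁻¹ * x (x a) = (x a)⁻¹ * a * ((x a)⁻¹ * x (x a)) := by group
      _ = 1 := by rw [h]; group

/-- The subgroup fixed by the `p'`-elements of `J`. -/
def pPrimeFix (p : ℕ) (J : Subgroup (MulAut V)) : Subgroup V where
  carrier := {v | ∀ y ∈ J, (orderOf y).Coprime p → y v = v}
  one_mem' y _ _ := map_one y
  mul_mem' hv hw y hy hc := by rw [map_mul, hv y hy hc, hw y hy hc]
  inv_mem' hv y hy hc := by rw [map_inv, hv y hy hc]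

theorem pPrimeFix_invariant {p : ℕ} {J : Subgroup (MulAut V)} {j : MulAut V} (hj : j ∈ J)
    {v : V} (hv : v ∈ pPrimeFix p J) : j v ∈ pPrimeFix p J := by
  intro y hy hc
  have h := hv (j⁻¹ * y * j) (mul_mem (mul_mem (inv_mem hj) hy) hj) (by
    have : j⁻¹ * y * j = MulAut.conj j⁻¹ y := by simp [MulAut.conj_apply]
    rwa [this, MulEquiv.orderOf_eq])
  rw [MulAut.mul_apply, MulAut.mul_apply] at h
  conv_rhs => rw [← h]
  rw [MulAut.inv_def, MulEquiv.apply_symm_apply]

/-- A subgroup mapped into itself by generators is invariant. -/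
theorem invariant_of_generators [Finite V] {s : Set (MulAut V)} {R : Subgroup V}
    (h : ∀ j ∈ s, ∀ v ∈ R, j v ∈ R) {j : MulAut V} (hj : j ∈ Subgroup.closure s) :
    ∀ v ∈ R, j v ∈ R := by
  have : Finite (MulAut V) :=
    Finite.of_injective (fun α : MulAut V => (α : V → V)) DFunLike.coe_injective
  rw [← Subgroup.mem_toSubmonoid, Subgroup.closure_toSubmonoid_of_finite] at hj
  induction hj using Submonoid.closure_induction with
  | mem x hx => exact h x hx
  | one => exact fun v hv => hv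
  | mul x y _ _ hx hy => exact fun v hv => hx _ (hy v hv)

variable [Finite V] {p : ℕ} [hp : Fact p.Prime]

omit hp [Finite V] in
theorem eq_one_of_dev_fixed (hV : IsPGroup p V) {y : MulAut V} (hc : (orderOf y).Coprime p)
    (h : ∀ v, y (dev y v) = dev y v) : y = 1 := by
  refine MulEquiv.ext fun v => ?_
  obtain ⟨k, hk⟩ := hV (dev y v)
  have h1 := pow_apply_of_fixed (h v) (orderOf y)
  rw [pow_orderOf_eq_one, MulAut.one_apply, eq_comm, mul_eq_left] at h1
  have h2 : dev y v ^ Nat.gcd (p ^ k) (orderOf y) = 1 := pow_gcd_eq_one.2 ⟨hk, h1⟩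
  rw [(hc.symm.pow_left k).gcd_eq_one, pow_one] at h2
  rw [apply_eq_mul_dev y v, h2, mul_one, MulAut.one_apply]

/-- **The pair.** -/
theorem exists_quad_pair (h2 : p ≠ 2) (hV : IsPGroup p V) {g h : MulAut V} {J : Subgroup (MulAut V)}
    (hJ : J = Subgroup.closure {g, h}) (hnp : ∃ y ∈ J, (orderOf y).Coprime p ∧ y ≠ 1)
    (hmin : ∀ R : Subgroup V, (∀ j ∈ J, ∀ v ∈ R, j v ∈ R) → R ≠ ⊤ → R ≤ pPrimeFix p J)
    (hg : ∀ v, dev g (dev g v) ∈ pPrimeFix p J) (hh : ∀ v, dev h (dev h v) ∈ pPrimeFix p J) :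
    ∃ V₁ : Subgroup V, ∃ g₀ ∈ J, ∃ h₀ ∈ J,
      (∀ v ∈ V₁, g₀ v ∈ V₁) ∧ (∀ v ∈ V₁, h₀ v ∈ V₁) ∧
      (∀ v ∈ V₁, g₀ (dev g₀ v) = dev g₀ v) ∧ (∀ v ∈ V₁, h₀ (dev h₀ v) = dev h₀ v) ∧
      ∃ y ∈ Subgroup.closure ({g₀, h₀} : Set (MulAut V)),
        (orderOf y).Coprime p ∧ ∃ v ∈ V₁, y v ≠ v := by
  classical
  have : Finite (MulAut V) :=
    Finite.of_injective (fun α : MulAut V => (α : V → V)) DFunLike.coe_injective
  have hgJ : g ∈ J := hJ ▸ Subgroup.subset_closure (Set.mem_insert _ _)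
  have hhJ : h ∈ J := hJ ▸ Subgroup.subset_closure (Set.mem_insert_of_mem _ rfl)
  set F := pPrimeFix p J with hF
  -- proper invariant subgroups lie in `F`; the devs of `p'`-elements do not
  have hdevF : ∀ y ∈ J, (orderOf y).Coprime p → (∀ v, dev y v ∈ F) → y = 1 :=
    fun y hy hc hd => eq_one_of_dev_fixed hV hc fun v => hd v y hy hc
  have htop : ∀ R : Subgroup V, (∀ j ∈ J, ∀ v ∈ R, j v ∈ R) →
      (∀ y ∈ J, (orderOf y).Coprime p → ∀ v, dev y v ∈ R) → R = ⊤ := by
    intro R hR hd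
    by_contra hne
    obtain ⟨y, hy, hc, hy1⟩ := hnp
    exact hy1 (hdevF y hy hc fun v => hmin R hR hne (hd y hy hc v))
  obtain ⟨y₁, hy₁, hy₁c, hy₁1⟩ := hnp
  have : Nontrivial V := by
    by_contra hc
    rw [not_nontrivial_iff_subsingleton] at hc
    exact hy₁1 (MulEquiv.ext fun v => Subsingleton.elim _ _)
  have hΦ : frattini V ≤ F := by
    refine hmin _ (fun j _ v hv => ?_) ?_
    · have h1 := Subgroup.characteristic_iff_map_eq.1
        (inferInstance : (frattini V).Characteristic) j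
      exact h1.le ⟨v, hv, rfl⟩
    · obtain ⟨M, hM, -⟩ := (eq_top_or_exists_le_coatom (⊥ : Subgroup V)).resolve_left bot_ne_top
      exact fun h => hM.1 (top_le_iff.1 (h ▸ frattini_le_coatom hM))
  have hcomm : commutator V ≤ F := (PGroup.commutator_le_frattini hV).trans hΦ
  have hpow : ∀ v : V, v ^ p ∈ F := fun v => hΦ (PGroup.pow_mem_frattini hV v)
  have : F.Normal := Subgroup.Normal.of_commutator_le V hcomm
  have hcen : F ≤ Subgroup.center V := by
    have h := htop (Subgroup.centralizer (F : Set V)) (fun j hj v hv m hm => ?_) fun y hy hc v m hm => ?_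
    · intro m hm
      rw [Subgroup.mem_center_iff]
      intro v
      exact ((h ▸ Subgroup.mem_top v : v ∈ Subgroup.centralizer (F : Set V)) m hm).symm
    · have := congrArg j (hv (j⁻¹ m) (pPrimeFix_invariant (inv_mem hj) hm))
      simpa [MulAut.inv_def] using this
    · have h1 : y ⁅m, v⁆ = ⁅m, v⁆ :=
        hcomm (Subgroup.commutator_mem_commutator (Subgroup.mem_top m) (Subgroup.mem_top v)) y hy hc
      rw [map_commutatorElement, hm y hy hc] at h1
      have h2 : y v * m⁻¹ * (y v)⁻¹ = v * m⁻¹ * v⁻¹ := by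
        simpa only [commutatorElement_def, mul_assoc, mul_right_inj] using h1
      show m * (v⁻¹ * y v) = v⁻¹ * y v * m
      calc m * (v⁻¹ * y v) = v⁻¹ * (v * m⁻¹ * v⁻¹)⁻¹ * y v := by group
        _ = v⁻¹ * (y v * m⁻¹ * (y v)⁻¹)⁻¹ * y v := by rw [h2]
        _ = v⁻¹ * y v * m := by group
  have hcl : commutator V ≤ Subgroup.center V := hcomm.trans hcen
  have hcz : ∀ a b : V, ⁅a, b⁆ ∈ Subgroup.center V := PGroup.mem_center_of_class_two hcl
  have hcp : ∀ a b : V, ⁅a, b⁆ ^ p = 1 := fun a b => by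
    rw [← PGroup.commutator_pow_left (hcz a b)]
    exact commutatorElement_eq_one_iff_mul_comm.2 (Subgroup.mem_center_iff.1 (hcen (hpow a)) b).symm
  have hexp : ∀ v : V, v ^ p = 1 := by
    have h := htop (PGroup.powHom (Fact.out : p.Prime) h2 hcl hcp).ker (fun j _ v hv => ?_)
      fun y hy hc v => ?_
    · exact fun v => (h ▸ Subgroup.mem_top v : v ∈ (PGroup.powHom _ h2 hcl hcp).ker)
    · show j v ^ p = 1
      rw [← map_pow, show v ^ p = 1 from hv, map_one]
    · show (v⁻¹ * y v) ^ p = 1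
      rw [PGroup.mul_pow_prime Fact.out h2 (hcz _ _) (hcp _ _), ← map_pow,
        hpow v y hy hc, inv_pow, inv_mul_cancel]
  obtain ⟨k, hk⟩ : ∃ k, 2 * k = p + 1 := by
    obtain ⟨j, hj⟩ := (Fact.out : p.Prime).odd_of_ne_two h2
    exact ⟨j + 1, by omega⟩
  have hsqrt : ∀ c : V, c ^ k * c ^ k = c := fun c => by
    rw [← pow_add, show k + k = p + 1 by omega, pow_succ, hexp, one_mul]
  -- the action on `V / F`
  let _ : CommGroup (V ⧸ F) :=
    { (inferInstance : Group (V ⧸ F)) with
      mul_comm := fun a b => QuotientGroup.induction_on a fun a => QuotientGroup.induction_on b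
        fun b => (QuotientGroup.eq).2 (hcomm (by
          have : (a * b)⁻¹ * (b * a) = ⁅b⁻¹, a⁻¹⁆ := by rw [commutatorElement_def]; group
          rw [this]
          exact Subgroup.commutator_mem_commutator (Subgroup.mem_top _) (Subgroup.mem_top _))) }
  let W := Additive (V ⧸ F)
  let π : V → W := fun v => Additive.ofMul (QuotientGroup.mk v)
  have hπs : Function.Surjective π := fun w => by
    obtain ⟨v, hv⟩ := QuotientGroup.mk_surjective (Additive.toMul w)
    exact ⟨v, congrArg Additive.ofMul hv⟩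
  have hπ0 : ∀ v, π v = 0 ↔ v ∈ F := fun v => QuotientGroup.eq_one_iff v
  have hπm : ∀ a b, π (a * b) = π a + π b := fun a b => rfl
  have hπi : ∀ a, π a⁻¹ = -π a := fun a => rfl
  let ρ : J →* AddMonoid.End W :=
    { toFun := fun j => MonoidHom.toAdditive (QuotientGroup.map F F (j : MulAut V).toMonoidHom
        fun v hv => pPrimeFix_invariant j.2 hv)
      map_one' := AddMonoidHom.ext fun w => by obtain ⟨v, rfl⟩ := hπs w; rfl
      map_mul' := fun i j => AddMonoidHom.ext fun w => by obtain ⟨v, rfl⟩ := hπs w; rfl }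
  have hρ : ∀ (j : J) v, ρ j (π v) = π ((j : MulAut V) v) := fun _ _ => rfl
  have hdev : ∀ (j : J) v, (ρ j - 1 : AddMonoid.End W) (π v) = π (dev (j : MulAut V) v) := by
    intro j v
    rw [dev, hπm, hπi]
    show ρ j (π v) - π v = _
    rw [hρ, sub_eq_add_neg, add_comm]
  have hWp : ∀ w : W, p • w = 0 := fun w => by
    obtain ⟨v, rfl⟩ := hπs w
    exact congrArg Additive.ofMul (show (QuotientGroup.mk v : V ⧸ F) ^ p = 1 by
      rw [← QuotientGroup.mk_pow, hexp, QuotientGroup.mk_one])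
  set a : J := ⟨g, hgJ⟩ with ha
  set b : J := ⟨h, hhJ⟩ with hb
  set N : AddMonoid.End W := ρ a - 1 with hNdef
  set M : AddMonoid.End W := ρ b - 1 with hMdef
  have hN : N * N = 0 := AddMonoidHom.ext fun w => by
    obtain ⟨v, rfl⟩ := hπs w
    show (ρ a - 1 : AddMonoid.End W) ((ρ a - 1 : AddMonoid.End W) (π v)) = 0
    rw [hdev, hdev, hπ0]
    exact hg v
  have hM : M * M = 0 := AddMonoidHom.ext fun w => by
    obtain ⟨v, rfl⟩ := hπs w
    show (ρ b - 1 : AddMonoid.End W) ((ρ b - 1 : AddMonoid.End W) (π v)) = 0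
    rw [hdev, hdev, hπ0]
    exact hh v
  have hgen : Subgroup.closure ({a, b} : Set J) = ⊤ := by
    apply Subgroup.map_injective J.subtype_injective
    rw [MonoidHom.map_closure, Set.image_pair, ← MonoidHom.range_eq_map, Subgroup.range_subtype]
    exact hJ.symm
  have hirr : ∀ U : AddSubgroup W, (∀ x ∈ U, N x ∈ U) → (∀ x ∈ U, M x ∈ U) → U = ⊥ ∨ U = ⊤ := by
    intro U hUN hUM
    let R : Subgroup V :=
      { carrier := {v | π v ∈ U}
        one_mem' := U.zero_mem
        mul_mem' := fun hv hw => U.add_mem hv hw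
        inv_mem' := fun hv => U.neg_mem hv }
    have hR : ∀ j ∈ J, ∀ v ∈ R, j v ∈ R := by
      intro j hj
      refine invariant_of_generators (s := {g, h}) ?_ (hJ ▸ hj)
      rintro x (rfl | rfl) v hv
      · show π (x v) ∈ U
        rw [show π (x v) = π v + N (π v) by rw [hdev, ← hπm, ← apply_eq_mul_dev]]
        exact U.add_mem hv (hUN _ hv)
      · show π (x v) ∈ U
        rw [show π (x v) = π v + M (π v) by rw [hdev, ← hπm, ← apply_eq_mul_dev]]
        exact U.add_mem hv (hUM _ hv)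
    by_cases hne : R = ⊤
    · refine Or.inr (eq_top_iff.2 fun w _ => ?_)
      obtain ⟨v, rfl⟩ := hπs w
      exact (hne ▸ Subgroup.mem_top v : v ∈ R)
    · refine Or.inl (eq_bot_iff.2 fun w hw => ?_)
      obtain ⟨v, rfl⟩ := hπs w
      exact AddSubgroup.mem_bot.2 ((hπ0 v).2 (hmin R hR hne hw))
  have hρdev : ∀ (j : J), ρ j = 1 → ∀ v, dev (j : MulAut V) v ∈ F := fun j hj v => by
    rw [← hπ0, ← hdev, hj, sub_self]
    rfl
  have hnpW : ∀ y : J, (orderOf y).Coprime p → ρ y = 1 → y = 1 := fun y hc hy =>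
    Subtype.ext (hdevF y y.2 (by rwa [Subgroup.orderOf_coe]) (hρdev y hy))
  -- `N` and `M` are nonzero
  have hnz : ∀ (x y : J) (T : AddMonoid.End W), T * T = 0 → ρ x = 1 → ρ y = 1 + T →
      ({a, b} : Set J) ⊆ {x, y} → False := by
    intro x y T hT hx hy hsub
    have hpw : ∀ n : ℕ, (1 + T) ^ n = 1 + n • T := by
      intro n
      induction n with
      | zero => simp
      | succ n ih =>
        rw [pow_succ, ih, add_mul, one_mul, smul_mul_assoc, mul_add, mul_one, hT, add_zero,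
          succ_nsmul]
        abel
    have hall : ∀ j : J, ∃ n : ℕ, ρ j = (1 + T) ^ n := by
      intro j
      have hj : j ∈ (Subgroup.closure ({a, b} : Set J)).toSubmonoid := hgen ▸ Subgroup.mem_top j
      rw [Subgroup.closure_toSubmonoid_of_finite] at hj
      induction hj using Submonoid.closure_induction with
      | mem z hz =>
        rcases hsub hz with rfl | rfl
        · exact ⟨0, by rw [hx, pow_zero]⟩
        · exact ⟨1, by rw [hy, pow_one]⟩
      | one => exact ⟨0, by rw [map_one, pow_zero]⟩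
      | mul i j _ _ hi hj =>
        obtain ⟨m, hm⟩ := hi
        obtain ⟨n, hn⟩ := hj
        exact ⟨m + n, by rw [map_mul, hm, hn, pow_add]⟩
    refine hy₁1 (congrArg Subtype.val (hnpW ⟨y₁, hy₁⟩ (by rwa [Subgroup.orderOf_mk]) ?_))
    obtain ⟨n, hn⟩ := hall ⟨y₁, hy₁⟩
    have h1 : ρ ⟨y₁, hy₁⟩ ^ p = 1 := by
      rw [hn, ← pow_mul, mul_comm, pow_mul, hpw, show p • T = 0 from AddMonoidHom.ext fun w => hWp _,
        add_zero, one_pow]
    have h2 : ρ ⟨y₁, hy₁⟩ ^ orderOf (⟨y₁, hy₁⟩ : J) = 1 := by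
      rw [← map_pow, pow_orderOf_eq_one, map_one]
    have h3 : ρ ⟨y₁, hy₁⟩ ^ Nat.gcd p (orderOf (⟨y₁, hy₁⟩ : J)) = 1 := pow_gcd_eq_one.2 ⟨h1, h2⟩
    rwa [Subgroup.orderOf_mk, hy₁c.symm.gcd_eq_one, pow_one] at h3
  have hab : ρ a = 1 + N ∧ ρ b = 1 + M := ⟨(add_sub_cancel 1 _).symm, (add_sub_cancel 1 _).symm⟩
  have hN0 : ∃ x, N x ≠ 0 := by
    by_contra! hc
    refine hnz a b M hM ?_ hab.2 (fun _ hz => hz)
    rw [hab.1, show N = 0 from AddMonoidHom.ext hc, add_zero]
  have hM0 : ∃ x, M x ≠ 0 := by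
    by_contra! hc
    refine hnz b a N hN ?_ hab.1 (Set.pair_comm a b).le
    rw [hab.2, show M = 0 from AddMonoidHom.ext hc, add_zero]
  -- an involution inverting `V / F`
  obtain ⟨j, hj⟩ := exists_neg_one h2 hWp hgen ρ hab.1 hab.2 hN hM hirr hN0 hM0
    ⟨⟨y₁, hy₁⟩, by rwa [Subgroup.orderOf_mk], fun hc =>
      hy₁1 (congrArg Subtype.val (hnpW ⟨y₁, hy₁⟩ (by rwa [Subgroup.orderOf_mk]) hc))⟩
  obtain ⟨e, m, hm, hjm⟩ := Nat.exists_eq_pow_mul_and_not_dvd (orderOf_pos j).ne' 2 (by norm_num)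
  set y : J := j ^ m with hy
  have hneg : (-1 : AddMonoid.End W) * -1 = 1 := AddMonoidHom.ext fun w => neg_neg w
  have hnegpow : ∀ q : ℕ, Odd q → (-1 : AddMonoid.End W) ^ q = -1 := by
    rintro q ⟨r, rfl⟩
    rw [pow_succ, pow_mul, sq, hneg, one_pow, one_mul]
  have hρy : ρ y = -1 := by
    rw [hy, map_pow, hj]
    exact hnegpow m (Nat.not_even_iff_odd.1 fun he => hm he.two_dvd)
  have hyc : (orderOf y).Coprime p := by
    refine Nat.Coprime.coprime_dvd_left (orderOf_dvd_of_pow_eq_one (n := 2 ^ e) ?_)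
      (Nat.Coprime.pow_left e ((Nat.coprime_primes Nat.prime_two Fact.out).2 (Ne.symm h2)))
    rw [hy, ← pow_mul, mul_comm, ← hjm, pow_orderOf_eq_one]
  have hyy : y * y = 1 := hnpW _
    (Nat.Coprime.coprime_dvd_left (orderOf_dvd_of_pow_eq_one (by
      rw [← sq, ← pow_mul, mul_comm, pow_mul, pow_orderOf_eq_one, one_pow])) hyc)
    (by rw [map_mul, hρy, hneg])
  set Y : MulAut V := (y : MulAut V) with hY
  have hYY : ∀ v, Y (Y v) = v := fun v => DFunLike.congr_fun (congrArg Subtype.val hyy) v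
  have hYF : ∀ v ∈ F, Y v = v := fun v hv => hv Y y.2 (by rwa [hY, Subgroup.orderOf_coe])
  -- correct `g` and `h` so as to commute with `y`
  have hfix : ∀ x : J, ∃ x₀ : J, ρ x₀ = ρ x ∧ (x₀ : MulAut V) * Y = Y * x₀ := by
    intro x
    set z : J := x * y * x⁻¹ with hz
    set d : J := y * z with hd
    have hzz : z * z = 1 := by
      rw [hz]; calc x * y * x⁻¹ * (x * y * x⁻¹) = x * (y * y) * x⁻¹ := by group
        _ = 1 := by rw [hyy, mul_one, mul_inv_cancel]
    have hρz : ρ z = -1 := by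
      rw [hz, map_mul, map_mul, hρy, show ρ x * -1 = -1 * ρ x from AddMonoidHom.ext fun w => map_neg (ρ x) w, mul_assoc, ← map_mul, mul_inv_cancel, map_one, mul_one]
    have hρd : ρ d = 1 := by rw [hd, map_mul, hρy, hρz, hneg]
    have hzc : (orderOf (z : MulAut V)).Coprime p := by
      rw [Subgroup.orderOf_coe, hz, show x * y * x⁻¹ = MulAut.conj x y from rfl, MulEquiv.orderOf_eq]
      exact hyc
    have hdF : ∀ v ∈ F, (d : MulAut V) v = v := fun v hv => by
      show Y ((z : MulAut V) v) = v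
      rw [hv _ z.2 hzc, hYF v hv]
    have hdp : d ^ p = 1 := Subtype.ext (MulEquiv.ext fun v => by
      rw [Subgroup.coe_pow, pow_apply_of_fixed (hdF _ (hρdev d hρd v)), hexp, mul_one]
      rfl)
    have hyi : y⁻¹ = y := inv_eq_of_mul_eq_one_left hyy
    have hzi : z⁻¹ = z := inv_eq_of_mul_eq_one_left hzz
    have hflip : y * d * y⁻¹ = d⁻¹ := by
      rw [hd, mul_inv_rev, hyi, hzi, ← mul_assoc y y, hyy, one_mul]
    have hyd : y * d = z := by rw [hd, ← mul_assoc, hyy, one_mul]
    refine ⟨d ^ k * x, by rw [map_mul, map_pow, hρd, one_pow, one_mul], ?_⟩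
    have hxy : x * y = z * x := by rw [hz]; group
    have hflipk : d ^ k * y = y * (d ^ k)⁻¹ := by
      rw [← inv_pow, ← hflip, conj_pow, ← mul_assoc, ← mul_assoc, hyy, one_mul, hyi]
    have hkey : d ^ k * x * y = y * (d ^ k * x) := by
      calc d ^ k * x * y = d ^ k * (z * x) := by rw [mul_assoc, hxy]
        _ = d ^ k * (y * d) * x := by rw [hyd, mul_assoc (d ^ k)]
        _ = y * ((d ^ k)⁻¹ * d) * x := by rw [← mul_assoc, hflipk]; group
        _ = y * d ^ k * x := by
            congr 2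
            rw [inv_mul_eq_iff_eq_mul, ← pow_add, show k + k = p + 1 by omega, pow_succ, hdp,
              one_mul]
        _ = _ := by rw [mul_assoc]
    exact congrArg Subtype.val hkey
  obtain ⟨a₀, ha₀, hca⟩ := hfix a
  obtain ⟨b₀, hb₀, hcb⟩ := hfix b
  -- the subgroup generated by the inverted elements
  set I : Set V := {v | Y v = v⁻¹} with hI
  set V₁ := Subgroup.closure I with hV₁
  have hV₁W : ∀ w : W, ∃ v ∈ V₁, π v = w := by
    intro w
    obtain ⟨v, rfl⟩ := hπs w
    refine ⟨((dev Y v) ^ k)⁻¹, inv_mem (pow_mem (Subgroup.subset_closure ?_) k), ?_⟩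
    · show Y (dev Y v) = (dev Y v)⁻¹
      rw [dev, map_mul, map_inv, hYY, mul_inv_rev, inv_inv]
    · have hu2 : π ((dev Y v) ^ k) = k • π (dev Y v) :=
        congrArg Additive.ofMul (QuotientGroup.mk_pow F (dev Y v) k)
      rw [hπi, hu2, hY, ← hdev, hρy]
      show -(k • (-π v - π v)) = π v
      rw [← neg_add', smul_neg, neg_neg, ← two_nsmul, ← mul_nsmul, hk, succ_nsmul,
        hWp, zero_add]
  -- inverted elements are determined by their image
  have huniq : ∀ s t : V, Y s = s⁻¹ → Y t = t⁻¹ → π s = π t → s = t := by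
    intro s t hs ht hst
    set m := t⁻¹ * s with hm'
    have hmF : m ∈ F := by rw [hm', ← hπ0, hπm, hπi, hst, neg_add_cancel]
    have h1 : Y s = t⁻¹ * m := by rw [show s = t * m by rw [hm']; group, map_mul, ht, hYF m hmF]
    rw [hs, show s⁻¹ = t⁻¹ * m⁻¹ by
      rw [show s = t * m by rw [hm']; group, mul_inv_rev]
      exact (Subgroup.mem_center_iff.1 (inv_mem (hcen hmF)) t⁻¹).symm] at h1
    have h3 : m * m = 1 := by
      rw [mul_eq_one_iff_eq_inv]; exact (mul_left_cancel h1).symm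
    have h4 : m = 1 := by
      rw [← hsqrt m, ← (Commute.refl m).mul_pow, h3, one_pow]
    rw [← mul_one t, ← h4, hm', mul_inv_cancel_left]
  -- the form
  let _ : CommGroup F :=
    { (inferInstance : Group F) with
      mul_comm := fun s t => Subtype.ext (Subgroup.mem_center_iff.1 (hcen t.2) s) }
  have hbr : ∀ v w m m' : V, m ∈ F → m' ∈ F → ⁅v * m, w * m'⁆ = ⁅v, w⁆ := by
    intro v w m m' hmF hmF'
    have h1 : ∀ u n : V, n ∈ F → ⁅u, n⁆ = 1 ∧ ⁅n, u⁆ = 1 := fun u n hn =>
      ⟨commutatorElement_eq_one_iff_mul_comm.2 (Subgroup.mem_center_iff.1 (hcen hn) u),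
        commutatorElement_eq_one_iff_mul_comm.2 (Subgroup.mem_center_iff.1 (hcen hn) u).symm⟩
    rw [PGroup.commutator_mul_left (hcz _ _), PGroup.commutator_mul_right (hcz _ _), (h1 v m' hmF').1,
      (h1 (w * m') m hmF).2, mul_one, mul_one]
  let br : V → V → Additive F := fun v w => Additive.ofMul (⟨⁅v, w⁆,
    hcomm (Subgroup.commutator_mem_commutator (Subgroup.mem_top v) (Subgroup.mem_top w))⟩ : F)
  let out : W → V := Function.surjInv hπs
  have hout : ∀ v w, br (out (π v)) (out (π w)) = br v w := by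
    intro v w
    have h1 : ∀ u, out (π u) = u * (u⁻¹ * out (π u)) ∧ u⁻¹ * out (π u) ∈ F := fun u =>
      ⟨(mul_inv_cancel_left _ _).symm, by
        rw [← hπ0, hπm, hπi, Function.surjInv_eq hπs, neg_add_cancel]⟩
    refine congrArg Additive.ofMul (Subtype.ext ?_)
    show ⁅out (π v), out (π w)⁆ = ⁅v, w⁆
    rw [(h1 v).1, (h1 w).1, hbr _ _ _ _ (h1 v).2 (h1 w).2]
  let B : W →+ W →+ Additive F := AddMonoidHom.mk'
    (fun u => AddMonoidHom.mk' (fun w => br (out u) (out w)) fun w w' => by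
      obtain ⟨v, rfl⟩ := hπs u
      obtain ⟨s, rfl⟩ := hπs w
      obtain ⟨t, rfl⟩ := hπs w'
      rw [← hπm, hout, hout, hout]
      exact congrArg Additive.ofMul (Subtype.ext (PGroup.commutator_mul_right (hcz _ _))))
    (fun u u' => AddMonoidHom.ext fun w => by
      obtain ⟨v, rfl⟩ := hπs w
      obtain ⟨s, rfl⟩ := hπs u
      obtain ⟨t, rfl⟩ := hπs u'
      show br (out (π s + π t)) (out (π v)) = br (out (π s)) (out (π v)) + br (out (π t)) (out (π v))
      rw [← hπm, hout, hout, hout]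
      exact congrArg Additive.ofMul (Subtype.ext (PGroup.commutator_mul_left (hcz _ _))))
  have hB : ∀ v w, B (π v) (π w) = br v w := hout
  let res : J → Additive F →+ Additive F := fun x => MonoidHom.toAdditive
    (((x : MulAut V).toMonoidHom.comp F.subtype).codRestrict F fun v => pPrimeFix_invariant x.2 v.2)
  have hres : ∀ (x : J) (v : F), res x (Additive.ofMul v) =
      Additive.ofMul (⟨(x : MulAut V) v, pPrimeFix_invariant x.2 v.2⟩ : F) := fun _ _ => rfl
  have hBeq : ∀ (x : J) u w, res x (B u w) = B (ρ x u) (ρ x w) := by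
    intro x u w
    obtain ⟨s, rfl⟩ := hπs u
    obtain ⟨t, rfl⟩ := hπs w
    rw [hρ, hρ, hB, hB]
    exact congrArg Additive.ofMul (Subtype.ext (map_commutatorElement (x : MulAut V).toMonoidHom s t))
  have hFp : ∀ x : Additive F, p • x = 0 := fun x =>
    congrArg Additive.ofMul (Subtype.ext (hexp _) : Additive.toMul x ^ p = 1)
  have hform := form_eq_zero B
    (fun u => by
      obtain ⟨v, rfl⟩ := hπs u
      rw [hB]
      exact congrArg Additive.ofMul (Subtype.ext (commutatorElement_self v)))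
    (k := k) (fun x => by
      rw [← two_nsmul, ← mul_nsmul, mul_comm, mul_comm k, hk, succ_nsmul, hFp, zero_add])
    (N := N) (M := M) (fun x => DFunLike.congr_fun hN x) (fun x => DFunLike.congr_fun hM x)
    (span_of_irreducible (fun x => DFunLike.congr_fun hN x) (fun x => DFunLike.congr_fun hM x)
      hirr hN0) (res a) (res b)
    (fun u w => by
      rw [hBeq, hab.1]; rfl)
    (fun u w => by
      rw [hBeq, hab.2]; rfl)
    (fun R hR hσ hτ => ?_)
  swap
  · let T : Subgroup (MulAut V) :=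
      { carrier := {x | x ∈ J ∧ ∀ v : F, Additive.ofMul v ∈ R →
          ∃ hv : x v ∈ F, Additive.ofMul (⟨x v, hv⟩ : F) ∈ R}
        one_mem' := ⟨one_mem J, fun v hv => ⟨v.2, hv⟩⟩
        mul_mem' := fun {s t} hs ht => ⟨mul_mem hs.1 ht.1, fun v hv => by
          obtain ⟨h1, h2⟩ := ht.2 v hv
          exact hs.2 ⟨_, h1⟩ h2⟩
        inv_mem' := fun {s} hs => ⟨inv_mem hs.1, fun v hv => by
          obtain ⟨i, hi⟩ : ∃ i : ℕ, s ^ i = s⁻¹ :=
            (mem_powers_iff_mem_zpowers (x := s)).2 (inv_mem (Subgroup.mem_zpowers s))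
          rw [← hi]
          clear hi
          induction i generalizing v with
          | zero => exact ⟨v.2, hv⟩
          | succ i ih =>
            obtain ⟨h1, h2⟩ := hs.2 v hv
            rw [pow_succ]
            exact ih ⟨_, h1⟩ h2⟩ }
    have hJT : J ≤ T := by
      rw [hJ, Subgroup.closure_le]
      rintro x (rfl | rfl)
      · exact ⟨hgJ, fun v hv => ⟨pPrimeFix_invariant hgJ v.2, hσ _ hv⟩⟩
      · exact ⟨hhJ, fun v hv => ⟨pPrimeFix_invariant hhJ v.2, hτ _ hv⟩⟩
    have hinv : ∀ x : J, ∀ r ∈ R, res x r ∈ R := fun x r hr => by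
      obtain ⟨h1, h2⟩ := (hJT x.2).2 (Additive.toMul r) hr
      exact h2
    let act : J →* Module.End ℤ R :=
      { toFun := fun x => (((res x).comp R.subtype).codRestrict R
          fun r => hinv x r r.2).toIntLinearMap
        map_one' := LinearMap.ext fun r => Subtype.ext rfl
        map_mul' := fun x x' => LinearMap.ext fun r => Subtype.ext rfl }
    let actU : J →* (Module.End ℤ R)ˣ := act.toHomUnits
    have hA : IsPGroup p actU.range := by
      rintro ⟨_, x, rfl⟩
      obtain ⟨x₁, x₂, hx, hx₁, hx₂, -⟩ := ConjFun.exists_decomp (p := p) x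
      have h2 : actU x₂ = 1 := Units.ext (LinearMap.ext fun r => Subtype.ext (by
        show res x₂ (r : Additive F) = r
        exact congrArg Additive.ofMul (Subtype.ext
          ((Additive.toMul (r : Additive F)).2 _ x₂.2 (by rwa [Subgroup.orderOf_coe])))))
      obtain ⟨i, hi⟩ := hx₁ ⟨x₁, Subgroup.mem_zpowers x₁⟩
      refine ⟨i, Subtype.ext ?_⟩
      show actU x ^ p ^ i = 1
      rw [hx, map_mul, h2, mul_one, ← map_pow,
        show x₁ ^ p ^ i = 1 from congrArg Subtype.val hi, map_one]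
    by_cases hbot : actU.range = ⊥
    · have htriv : ∀ x : J, ∀ r ∈ R, res x r - r = 0 := fun x r hr => by
        have h1 : actU x = 1 := (Subgroup.eq_bot_iff_forall _).1 hbot _ ⟨x, rfl⟩
        rw [sub_eq_zero]
        exact congrArg Subtype.val (DFunLike.congr_fun (congrArg Units.val h1) ⟨r, hr⟩)
      exact ⟨⊥, bot_lt_iff_ne_bot.2 hR, fun r hr => by simp [AddSubgroup.mem_bot.1 hr],
        fun r hr => by simp [AddSubgroup.mem_bot.1 hr],
        fun r hr => AddSubgroup.mem_bot.2 (htriv a r hr),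
        fun r hr => AddSubgroup.mem_bot.2 (htriv b r hr)⟩
    · have hRp : ∀ r : R, p • r = 0 := fun r => Subtype.ext (hFp r)
      have hne : PGV.comms actU.range ≠ ⊤ := fun hc =>
        hbot (PGV.eq_bot_of_fixed_sup_comms hRp hA (by rw [hc, sup_top_eq]))
      set R' := (PGV.comms actU.range).map R.subtype with hR'
      have hle : R' ≤ R := by
        rintro _ ⟨r, -, rfl⟩; exact r.2
      have hmem : ∀ x : J, ∀ r ∈ R, res x r - r ∈ R' := fun x r hr =>
        ⟨(actU x : Module.End ℤ R) ⟨r, hr⟩ - ⟨r, hr⟩,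
          AddSubgroup.subset_closure ⟨_, ⟨x, rfl⟩, ⟨r, hr⟩, rfl⟩, rfl⟩
      refine ⟨R', lt_of_le_of_ne hle fun hc => hne ?_, ?_, ?_, hmem a, hmem b⟩
      · refine eq_top_iff.2 fun r _ => ?_
        obtain ⟨r', hr', he⟩ := hc.ge r.2
        rwa [Subtype.ext he] at hr'
      · intro r hr
        simpa using add_mem (hmem a r (hle hr)) hr
      · intro r hr
        simpa using add_mem (hmem b r (hle hr)) hr
  -- quadratic on `V₁`
  have hquad : ∀ (x : J) (T : AddMonoid.End W), (x : MulAut V) * Y = Y * x → ρ x = 1 + T →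
      T * T = 0 → (∀ u w, B (T u) (T w) = 0) →
      (∀ v ∈ V₁, (x : MulAut V) v ∈ V₁) ∧
        ∀ v ∈ V₁, (x : MulAut V) (dev (x : MulAut V) v) = dev (x : MulAut V) v := by
    intro x T hxY hρx hT hTB
    set X : MulAut V := (x : MulAut V)
    have hTπ : ∀ v, T (π v) = π (dev X v) := fun v => by
      rw [← hdev, hρx, add_sub_cancel_left]
    have hXI : ∀ v ∈ I, X v ∈ I := fun v hv => by
      show Y (X v) = (X v)⁻¹
      rw [← map_inv, ← show Y v = v⁻¹ from hv]
      exact (DFunLike.congr_fun hxY v).symm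
    have hXV : ∀ v ∈ V₁, X v ∈ V₁ := by
      intro v hv
      induction hv using Subgroup.closure_induction with
      | mem u hu => exact Subgroup.subset_closure (hXI u hu)
      | one => rw [map_one]; exact one_mem _
      | mul u w _ _ hu hw => rw [map_mul]; exact mul_mem hu hw
      | inv u _ hu => rw [map_inv]; exact inv_mem hu
    have hm : ∀ v, ∃ m ∈ F, X (dev X v) = dev X v * m := fun v =>
      ⟨(dev X v)⁻¹ * X (dev X v), by
        rw [← hπ0, show (dev X v)⁻¹ * X (dev X v) = dev X (dev X v) from rfl, ← hTπ, ← hTπ]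
        exact DFunLike.congr_fun hT (π v), (mul_inv_cancel_left _ _).symm⟩
    have hI1 : ∀ v ∈ I, X (dev X v) = dev X v := by
      intro v hv
      set i := X v with hi
      have hi' : Y i = i⁻¹ := hXI v hv
      set D := dev X v with hD
      set c := ⁅v⁻¹, i⁆ with hc
      have hcF : c ^ k ∈ F := pow_mem
        (hcomm (Subgroup.commutator_mem_commutator (Subgroup.mem_top _) (Subgroup.mem_top _))) k
      set s := D * (c ^ k)⁻¹ with hs
      obtain ⟨m, hmF, hmD⟩ := hm v
      have hYD : Y D = D⁻¹ * c := by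
        rw [hD, dev, ← hi, map_mul, map_inv, show Y v = v⁻¹ from hv, hi', inv_inv, hc,
          commutatorElement_def]
        group
      have hYs : Y s = s⁻¹ := by
        rw [hs, map_mul, map_inv, hYD, hYF _ hcF, mul_inv_rev, inv_inv,
          show c ^ k * D⁻¹ = D⁻¹ * c ^ k from (Subgroup.mem_center_iff.1 (hcen hcF) D⁻¹).symm,
          mul_assoc]
        congr 1
        rw [mul_inv_eq_iff_eq_mul, hsqrt]
      have hXc : X c = c := by
        rw [hc, map_commutatorElement, map_inv, ← hi]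
        have hi2 : i = v * D := (mul_inv_cancel_left v i).symm
        have hXi : X i = i * (D * m) := by
          conv_lhs => rw [hi2, map_mul, ← hi, hmD]
        have hcm : ∀ u, ⁅u, D * m⁆ = ⁅u, D⁆ := fun u => by
          simpa using hbr u D 1 m (one_mem F) hmF
        rw [hXi, PGroup.commutator_mul_right (hcz _ _), hcm,
          commutatorElement_eq_one_iff_mul_comm.2 ((Commute.refl i).inv_left.eq), one_mul, hi2,
          mul_inv_rev, PGroup.commutator_mul_left (hcz _ _),
          commutatorElement_eq_one_iff_mul_comm.2 ((Commute.refl D).inv_left.eq), one_mul,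
          PGroup.commutator_mul_right (hcz _ _),
          commutatorElement_eq_one_iff_mul_comm.2 ((Commute.refl v).inv_left.eq), one_mul]
      have hXs : X s = s := by
        refine huniq _ _ (by
          show Y (X s) = (X s)⁻¹
          rw [← map_inv, ← hYs]
          exact (DFunLike.congr_fun hxY s).symm) hYs ?_
        rw [hs, map_mul, map_inv, map_pow, hXc, hmD, hπm, hπm, hπm, (hπ0 m).2 hmF, add_zero]
      calc X D = X (s * c ^ k) := by rw [hs, inv_mul_cancel_right]
        _ = D := by rw [map_mul, map_pow, hXc, hXs, hs, inv_mul_cancel_right]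
    refine ⟨hXV, fun v hv => ?_⟩
    rw [hV₁, ← Subgroup.mem_toSubmonoid, Subgroup.closure_toSubmonoid_of_finite] at hv
    induction hv using Submonoid.closure_induction with
    | mem u hu => exact hI1 u hu
    | one => simp [dev]
    | mul u w _ _ hu hw =>
      have hd : dev X (u * w) = w⁻¹ * dev X u * w * dev X w := by
        simp [dev, mul_assoc]
      rw [hd, map_mul, map_mul, map_mul, map_inv, hu, hw, apply_eq_mul_dev X w]
      have hcd : dev X w * dev X u = dev X u * dev X w := by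
        have h1 := hTB (π w) (π u)
        rw [hTπ, hTπ, hB] at h1
        exact commutatorElement_eq_one_iff_mul_comm.1 (congrArg Subtype.val h1)
      have hcd' : (dev X w)⁻¹ * dev X u * dev X w = dev X u := by
        rw [mul_assoc, ← hcd, inv_mul_cancel_left]
      set D := dev X w with hD
      set E := dev X u with hE
      calc (w * D)⁻¹ * E * (w * D) * D = D⁻¹ * (w⁻¹ * E * w) * D * D := by group
        _ = w⁻¹ * E * w * D := by
          congr 1
          have hz : w⁻¹ * E * w = E * ⁅E⁻¹, w⁻¹⁆ := by rw [commutatorElement_def]; group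
          rw [hz, show D⁻¹ * (E * ⁅E⁻¹, w⁻¹⁆) * D = D⁻¹ * E * (⁅E⁻¹, w⁻¹⁆ * D) by group,
            ← Subgroup.mem_center_iff.1 (hcz _ _) D, ← mul_assoc, hcd']
  have hρa₀ : ρ a₀ = 1 + N := ha₀.trans hab.1
  have hρb₀ : ρ b₀ = 1 + M := hb₀.trans hab.2
  obtain ⟨hA1, hA2⟩ := hquad a₀ N hca hρa₀ hN fun u w => (hform u w).1
  obtain ⟨hB1, hB2⟩ := hquad b₀ M hcb hρb₀ hM fun u w => (hform u w).2
  refine ⟨V₁, a₀, a₀.2, b₀, b₀.2, hA1, hB1, hA2, hB2, ?_⟩
  -- a `p'`-element of the new pair moving `V₁`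
  set J₀ : Subgroup J := Subgroup.closure ({a₀, b₀} : Set J) with hJ₀
  have hsame : ∀ x : J, ∃ x₀ ∈ J₀, ρ x₀ = ρ x := by
    intro x
    have hx : x ∈ Subgroup.closure ({a, b} : Set J) := hgen ▸ Subgroup.mem_top x
    induction hx using Subgroup.closure_induction with
    | mem z hz =>
      rcases hz with rfl | rfl
      · exact ⟨a₀, Subgroup.subset_closure (Or.inl rfl), ha₀⟩
      · exact ⟨b₀, Subgroup.subset_closure (Or.inr rfl), hb₀⟩
    | one => exact ⟨1, one_mem _, rfl⟩
    | mul s t _ _ hs ht =>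
      obtain ⟨s₀, hs₀, hs⟩ := hs
      obtain ⟨t₀, ht₀, ht⟩ := ht
      exact ⟨s₀ * t₀, mul_mem hs₀ ht₀, by rw [map_mul, map_mul, hs, ht]⟩
    | inv s _ hs =>
      obtain ⟨s₀, hs₀, hs⟩ := hs
      refine ⟨s₀⁻¹, inv_mem hs₀, ?_⟩
      calc ρ s₀⁻¹ = ρ s₀⁻¹ * (ρ s * ρ s⁻¹) := by rw [← map_mul, mul_inv_cancel, map_one, mul_one]
        _ = _ := by rw [← hs, ← mul_assoc, ← map_mul, inv_mul_cancel, map_one, one_mul]
  obtain ⟨z, hz, hρz⟩ := hsame y
  obtain ⟨z₁, z₂, hzz, hz₁, hz₂, n, hn⟩ := ConjFun.exists_decomp (p := p) z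
  have hz₂J : z₂ ∈ J₀ := by
    have : z₂ = z₁⁻¹ * z := by rw [hzz, inv_mul_cancel_left]
    rw [this, hn]
    exact mul_mem (inv_mem (pow_mem hz n)) hz
  refine ⟨(z₂ : MulAut V), ?_, by rwa [Subgroup.orderOf_coe], ?_⟩
  · have := Subgroup.mem_map_of_mem J.subtype hz₂J
    rwa [hJ₀, MonoidHom.map_closure, Set.image_pair] at this
  · by_contra! hc
    have h2' : ρ z₂ = 1 := AddMonoidHom.ext fun w => by
      obtain ⟨v, hv, rfl⟩ := hV₁W w
      exact (hρ z₂ v).trans (congrArg π (hc v hv))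
    obtain ⟨i, hi⟩ := hz₁ ⟨z₁, Subgroup.mem_zpowers z₁⟩
    have h1 : (-1 : AddMonoid.End W) = 1 := by
      have h3 : ρ z ^ p ^ i = 1 := by
        rw [hzz, map_mul, h2', mul_one, ← map_pow,
          show z₁ ^ p ^ i = 1 from congrArg Subtype.val hi, map_one]
      rwa [hρz, hρy, hnegpow _ ((Fact.out : p.Prime).odd_of_ne_two h2).pow] at h3
    refine hy₁1 (congrArg Subtype.val (hnpW ⟨y₁, hy₁⟩ (by rwa [Subgroup.orderOf_mk])
      (AddMonoidHom.ext fun w => ?_)))
    have hw : w = 0 := by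
      have h4 : -w = w := DFunLike.congr_fun h1 w
      have h5 : w + w = 0 := by nth_rewrite 1 [← h4]; exact neg_add_cancel w
      have h6 : (2 * k) • w = w := by rw [hk, succ_nsmul, hWp, zero_add]
      rw [← h6, mul_comm, mul_nsmul, two_nsmul]
      rw [← nsmul_add, h5, nsmul_zero]
    subst hw
    exact (map_zero (ρ ⟨y₁, hy₁⟩)).trans (map_zero (1 : AddMonoid.End W)).symm

end Cfsg.Agent.PStability
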